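import Cfsg.Agent.OrthMono.Closure
import Cfsg.Agent.OrthMax.DecompRoots

/-!
# A self-adjoint quadratic extension on an orthogonal space

`SStr Q δ`: `J² = δ`, self-adjoint for the polar form. `sm k x` is the action of `k = p + q j`, `h` the
symmetric form over the extension whose real part is the polar form, `q` its quadratic form.
-/

set_option autoImplicit false
set_option linter.unusedSectionVars false

namespace CfsgLib.OrthExtTwo

open Matrix Module CfsgLib.Spinor CfsgLib.Forms CfsgLib.Forms4 CfsgLib.OrthMax CfsgLib.OrthMono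

variable {F : Type*} [Field F] {ι : Type} [Fintype ι] [DecidableEq ι] {Q : QuadraticForm F (ι → F)}

set_option quotPrecheck false in
local notation "𝔅" => QuadraticMap.polar (⇑Q)

/-- An isometry from a linear map preserving the form and an inverse. -/
noncomputable def mkIso (L L' : (ι → F) →ₗ[F] (ι → F)) (h : ∀ x, L (L' x) = x) (h' : ∀ x, L' (L x) = x)
    (hQ : ∀ x, Q (L x) = Q x) : Isom Q :=
  ⟨⟨LinearMap.toMatrix' L, LinearMap.toMatrix' L', by
      rw [← LinearMap.toMatrix'_comp, show L ∘ₗ L' = LinearMap.id from LinearMap.ext h, LinearMap.toMatrix'_id],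
    by rw [← LinearMap.toMatrix'_comp, show L' ∘ₗ L = LinearMap.id from LinearMap.ext h', LinearMap.toMatrix'_id]⟩,
    fun x _ => by
      show Q (LinearMap.toMatrix' L *ᵥ x) = Q x
      rw [LinearMap.toMatrix'_mulVec]; exact hQ x⟩

theorem ap_mkIso (L L' : (ι → F) →ₗ[F] (ι → F)) (h : ∀ x, L (L' x) = x) (h' : ∀ x, L' (L x) = x)
    (hQ : ∀ x, Q (L x) = Q x) (x : ι → F) : ap (mkIso L L' h h' hQ) x = L x := by
  rw [ap_def]
  show LinearMap.toMatrix' L *ᵥ x = L x
  rw [LinearMap.toMatrix'_mulVec]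

/-- Squares lie in `Ω`. -/
theorem sq_mem_omega [Fintype F] (hQ : (QuadraticMap.polarBilin Q).Nondegenerate) (h2 : (2 : F) ≠ 0) (g : Isom Q) :
    g * g ∈ Cfsg.Omega F ⇑Q := by
  obtain ⟨vs, hvs⟩ := exists_isReflProd h2 hQ g
  refine (mem_omega_iff h2 hQ (hvs.mul hvs)).2 ⟨?_, ?_⟩
  · rw [List.length_append]; exact ⟨_, rfl⟩
  · rw [List.map_append, List.prod_append]; exact ⟨_, rfl⟩

variable {δ : F}

/-- A self-adjoint square root of a nonsquare scalar. -/
structure SStr (Q : QuadraticForm F (ι → F)) (δ : F) where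
  J : (ι → F) →ₗ[F] (ι → F)
  sq : ∀ x, J (J x) = δ • x
  adj : ∀ x y, QuadraticMap.polar (⇑Q) (J x) y = QuadraticMap.polar (⇑Q) x (J y)
  two : (2 : F) ≠ 0
  nondeg : (QuadraticMap.polarBilin Q).Nondegenerate

local notation "𝕂" => QuadraticAlgebra F δ 0

variable [hδ : Fact (∀ r : F, r ^ 2 ≠ δ + 0 * r)]

theorem delta_ne : (δ : F) ≠ 0 := fun h => hδ.out 0 (by simp [h])

namespace SStr

variable (S : SStr Q δ)

/-- The action of the extension. -/
def sm (k : 𝕂) : (ι → F) →ₗ[F] (ι → F) := k.re • LinearMap.id + k.im • S.J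

theorem sm_apply (k : 𝕂) (x : ι → F) : S.sm k x = k.re • x + k.im • S.J x := rfl

theorem J_eq (x : ι → F) : S.J x = S.sm ⟨0, 1⟩ x := by simp [sm_apply]

theorem sm_one (x : ι → F) : S.sm 1 x = x := by simp [sm_apply, QuadraticAlgebra.re_one, QuadraticAlgebra.im_one]

theorem sm_coe (r : F) (x : ι → F) : S.sm ⟨r, 0⟩ x = r • x := by simp [sm_apply]

theorem sm_zero_left (x : ι → F) : S.sm 0 x = 0 := by simp [sm_apply]

theorem add_sm (k l : 𝕂) (x : ι → F) : S.sm (k + l) x = S.sm k x + S.sm l x := by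
  simp only [sm_apply, QuadraticAlgebra.re_add, QuadraticAlgebra.im_add]; module

theorem sub_sm (k l : 𝕂) (x : ι → F) : S.sm (k - l) x = S.sm k x - S.sm l x := by
  simp only [sm_apply, QuadraticAlgebra.re_sub, QuadraticAlgebra.im_sub]; module

theorem neg_sm (k : 𝕂) (x : ι → F) : S.sm (-k) x = -S.sm k x := by
  simp only [sm_apply, QuadraticAlgebra.re_neg, QuadraticAlgebra.im_neg]; module

theorem smul_sm (r : F) (k : 𝕂) (x : ι → F) : S.sm (r • k) x = r • S.sm k x := by
  simp only [sm_apply, QuadraticAlgebra.re_smul, QuadraticAlgebra.im_smul, smul_eq_mul]; module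

theorem sm_sm (k l : 𝕂) (x : ι → F) : S.sm k (S.sm l x) = S.sm (k * l) x := by
  simp only [sm_apply, map_add, map_smul, S.sq, QuadraticAlgebra.re_mul, QuadraticAlgebra.im_mul]
  module

theorem J_sm (k : 𝕂) (x : ι → F) : S.J (S.sm k x) = S.sm k (S.J x) := by
  rw [S.J_eq, S.J_eq x, sm_sm, sm_sm, mul_comm]

theorem sm_eq_zero {k : 𝕂} {x : ι → F} (h : S.sm k x = 0) : k = 0 ∨ x = 0 := by
  by_contra hne
  simp only [not_or] at hne
  exact hne.2 (by rw [← S.sm_one x, ← inv_mul_cancel₀ hne.1, ← sm_sm, h, map_zero])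

theorem sm_inv_sm {k : 𝕂} (hk : k ≠ 0) (x : ι → F) : S.sm k⁻¹ (S.sm k x) = x := by
  rw [sm_sm, inv_mul_cancel₀ hk, sm_one]

/-- The form over the extension. -/
def h (x y : ι → F) : 𝕂 := ⟨QuadraticMap.polar (⇑Q) x y, QuadraticMap.polar (⇑Q) x (S.J y) / δ⟩

/-- The quadratic form over the extension. -/
def q (x : ι → F) : 𝕂 := ⟨Q x, QuadraticMap.polar (⇑Q) x (S.J x) / (2 * δ)⟩

theorem re_h (x y : ι → F) : (S.h x y).re = 𝔅 x y := rfl

theorem re_q (x : ι → F) : (S.q x).re = Q x := rfl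

theorem h_comm (x y : ι → F) : S.h x y = S.h y x := by
  ext
  · exact QuadraticMap.polar_comm _ _ _
  · show 𝔅 x (S.J y) / δ = 𝔅 y (S.J x) / δ
    rw [← S.adj, QuadraticMap.polar_comm]

theorem h_eq_zero {x y : ι → F} : S.h x y = 0 ↔ 𝔅 x y = 0 ∧ 𝔅 (S.J x) y = 0 := by
  rw [QuadraticAlgebra.ext_iff]
  show 𝔅 x y = 0 ∧ 𝔅 x (S.J y) / δ = 0 ↔ _
  rw [div_eq_zero_iff, or_iff_left delta_ne, S.adj]

theorem h_add_left (x x' y : ι → F) : S.h (x + x') y = S.h x y + S.h x' y := by
  ext <;> simp [h, QuadraticMap.polar_add_left, add_div]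

theorem h_add_right (x y y' : ι → F) : S.h x (y + y') = S.h x y + S.h x y' := by
  rw [h_comm, h_add_left, h_comm S y, h_comm S y']

theorem h_sm_left (k : 𝕂) (x y : ι → F) : S.h (S.sm k x) y = k * S.h x y := by
  have hd := delta_ne (δ := δ)
  ext
  · simp only [h, sm_apply, QuadraticMap.polar_add_left, QuadraticMap.polar_smul_left, smul_eq_mul,
      QuadraticAlgebra.re_mul, S.adj]
    field_simp
  · simp only [h, sm_apply, QuadraticMap.polar_add_left, QuadraticMap.polar_smul_left, smul_eq_mul,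
      QuadraticAlgebra.im_mul, S.adj, S.sq, QuadraticMap.polar_smul_right]
    field_simp
    ring

theorem h_sm_right (k : 𝕂) (x y : ι → F) : S.h x (S.sm k y) = k * S.h x y := by
  rw [h_comm, h_sm_left, h_comm]

theorem h_smul_left (r : F) (x y : ι → F) : S.h (r • x) y = r • S.h x y := by
  rw [← S.sm_coe, h_sm_left]; ext <;> simp

theorem h_zero_left (y : ι → F) : S.h 0 y = 0 := by ext <;> simp [h]

theorem h_zero_right (y : ι → F) : S.h y 0 = 0 := by rw [h_comm, h_zero_left]

theorem h_neg_left (x y : ι → F) : S.h (-x) y = -S.h x y := by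
  ext <;> simp [h, neg_div]

theorem h_neg_right (x y : ι → F) : S.h x (-y) = -S.h x y := by rw [h_comm, h_neg_left, h_comm]

theorem h_sub_left (x x' y : ι → F) : S.h (x - x') y = S.h x y - S.h x' y := by
  rw [sub_eq_add_neg, h_add_left, h_neg_left, sub_eq_add_neg]

theorem h_sub_right (x y y' : ι → F) : S.h x (y - y') = S.h x y - S.h x y' := by
  rw [sub_eq_add_neg, h_add_right, h_neg_right, sub_eq_add_neg]

theorem q_add (x y : ι → F) : S.q (x + y) = S.q x + S.q y + S.h x y := by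
  have hd := delta_ne (δ := δ)
  have h2 := S.two
  ext
  · simp only [q, h, QuadraticAlgebra.re_add, QuadraticMap.map_add (⇑Q) x y]
  · simp only [q, h, QuadraticAlgebra.im_add, map_add, QuadraticMap.polar_add_left, QuadraticMap.polar_add_right,
      ← S.adj y x, QuadraticMap.polar_comm (⇑Q) (S.J y) x]
    field_simp
    ring

theorem h_self (x : ι → F) : S.h x x = 2 * S.q x := by
  have hd := delta_ne (δ := δ)
  have h2 := S.two
  rw [two_mul]
  ext
  · simp only [q, h, QuadraticAlgebra.re_add, polar_self']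
    ring
  · simp only [q, h, QuadraticAlgebra.im_add]
    field_simp
    ring

include S in
theorem two_K : (2 : 𝕂) ≠ 0 := fun h => S.two (by
  have := congrArg QuadraticAlgebra.re h
  simpa [QuadraticAlgebra.re_ofNat] using this)

theorem q_sm (k : 𝕂) (x : ι → F) : S.q (S.sm k x) = k * k * S.q x := by
  refine mul_left_cancel₀ S.two_K ?_
  rw [← h_self, h_sm_left, h_sm_right, h_self]
  ring

theorem q_smul (r : F) (x : ι → F) : S.q (r • x) = r • r • S.q x := by
  rw [← S.sm_coe, q_sm]; ext <;> simp <;> ring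

theorem q_zero : S.q 0 = 0 := by ext <;> simp [q]

theorem q_neg (x : ι → F) : S.q (-x) = S.q x := by
  ext <;> simp [q]

theorem q_sub (x y : ι → F) : S.q (x - y) = S.q x + S.q y - S.h x y := by
  rw [sub_eq_add_neg, q_add, q_neg, h_neg_right, sub_eq_add_neg]

theorem polar_eq_zero_of_h {x y : ι → F} (h : S.h x y = 0) : 𝔅 x y = 0 := (S.h_eq_zero.1 h).1

/-- The orthogonal over the extension. -/
def perp (u : ι → F) : Submodule F (ι → F) where
  carrier := {x | S.h u x = 0}
  add_mem' {x y} hx hy := by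
    show S.h u (x + y) = 0
    rw [h_add_right, hx, hy, add_zero]
  zero_mem' := S.h_zero_right u
  smul_mem' r x hx := by
    show S.h u (r • x) = 0
    rw [← S.sm_coe, h_sm_right, hx, mul_zero]

theorem mem_perp {u x : ι → F} : x ∈ S.perp u ↔ S.h u x = 0 := Iff.rfl

theorem sm_mem_perp {u x : ι → F} (hx : x ∈ S.perp u) (k : 𝕂) : S.sm k x ∈ S.perp u := by
  rw [mem_perp, h_sm_right, S.mem_perp.1 hx, mul_zero]

/-- The line over the extension. -/
def line (u : ι → F) : Submodule F (ι → F) where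
  carrier := {x | ∃ k : 𝕂, x = S.sm k u}
  add_mem' := by
    rintro _ _ ⟨k, rfl⟩ ⟨l, rfl⟩
    exact ⟨k + l, (S.add_sm k l u).symm⟩
  zero_mem' := ⟨0, (S.sm_zero_left u).symm⟩
  smul_mem' := by
    rintro r _ ⟨k, rfl⟩
    exact ⟨r • k, (S.smul_sm r k u).symm⟩

theorem mem_line {u x : ι → F} : x ∈ S.line u ↔ ∃ k : 𝕂, x = S.sm k u := Iff.rfl

theorem sm_mem_line (k : 𝕂) (u : ι → F) : S.sm k u ∈ S.line u := ⟨k, rfl⟩

theorem self_mem_line (u : ι → F) : u ∈ S.line u := ⟨1, (S.sm_one u).symm⟩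

theorem J_mem_line (u : ι → F) : S.J u ∈ S.line u := ⟨_, S.J_eq u⟩

theorem line_stable {u x : ι → F} (hx : x ∈ S.line u) : S.J x ∈ S.line u := by
  obtain ⟨k, rfl⟩ := hx
  rw [J_eq, sm_sm]
  exact S.sm_mem_line _ _

theorem line_eq_span (u : ι → F) : S.line u = Submodule.span F {u, S.J u} := by
  refine le_antisymm ?_ ((Submodule.span_le).2 ?_)
  · rintro _ ⟨k, rfl⟩
    exact Submodule.add_mem _ (Submodule.smul_mem _ _ (Submodule.subset_span (by simp)))
      (Submodule.smul_mem _ _ (Submodule.subset_span (by simp)))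
  · rintro x (rfl | rfl)
    · exact S.self_mem_line x
    · exact S.J_mem_line u

theorem finrank_line {u : ι → F} (hu : u ≠ 0) : finrank F (S.line u) = 2 := by
  let L : 𝕂 →ₗ[F] (ι → F) :=
    { toFun := fun k => S.sm k u, map_add' := fun k l => S.add_sm k l u, map_smul' := fun r k => S.smul_sm r k u }
  have hinj : Function.Injective L := fun k l (e : S.sm k u = S.sm l u) =>
    sub_eq_zero.1 ((S.sm_eq_zero (k := k - l) (x := u) (by rw [sub_sm, e, sub_self])).resolve_right hu)
  have hr : LinearMap.range L = S.line u := by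
    ext x
    exact ⟨fun ⟨k, hk⟩ => ⟨k, hk.symm⟩, fun ⟨k, hk⟩ => ⟨k, hk.symm⟩⟩
  rw [← hr, LinearMap.finrank_range_of_inj hinj]
  exact QuadraticAlgebra.finrank_eq_two _ _

theorem qperp_line (u : ι → F) : qperp Q (S.line u) = S.perp u := by
  ext x
  rw [mem_qperp, mem_perp, h_eq_zero]
  refine ⟨fun h => ⟨h u (S.self_mem_line u), h _ (S.J_mem_line u)⟩, ?_⟩
  rintro ⟨h1, h2⟩ _ ⟨k, rfl⟩
  rw [sm_apply, QuadraticMap.polar_add_left, QuadraticMap.polar_smul_left, QuadraticMap.polar_smul_left, h1, h2]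
  simp

theorem qperp_perp (u : ι → F) : qperp Q (S.perp u) = S.line u := by
  rw [← S.qperp_line, qperp_qperp S.nondeg]

/-- A vector pairing as one with a nonzero singular vector, itself singular. -/
theorem exists_partner {u : ι → F} (hu : u ≠ 0) (hq : S.q u = 0) : ∃ v, S.q v = 0 ∧ S.h u v = 1 := by
  obtain ⟨x, hx⟩ : ∃ x, S.h u x ≠ 0 := by
    by_contra hall
    push Not at hall
    exact hu (S.nondeg.1 u fun x => by
      rw [QuadraticMap.polarBilin_apply_apply]; exact S.polar_eq_zero_of_h (hall x))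
  refine ⟨S.sm (S.h u x)⁻¹ x - S.sm (S.q (S.sm (S.h u x)⁻¹ x)) u, ?_, ?_⟩
  · have h1 : S.h (S.sm (S.h u x)⁻¹ x) u = 1 := by rw [h_sm_left, S.h_comm x u, inv_mul_cancel₀ hx]
    rw [q_sub, q_sm S (S.q _) u, hq, mul_zero, add_zero, h_sm_right, h1, mul_one, sub_self]
  · rw [h_sub_right, h_sm_right, h_sm_right, inv_mul_cancel₀ hx, h_self, hq, mul_zero, mul_zero, sub_zero]

/-- Splitting off a hyperbolic pair. -/
theorem decomp {u v : ι → F} (huu : S.q u = 0) (hvv : S.q v = 0) (huv : S.h u v = 1) (x : ι → F) :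
    x - S.sm (S.h v x) u - S.sm (S.h u x) v ∈ S.perp u ⊓ S.perp v := by
  rw [Submodule.mem_inf, mem_perp, mem_perp]
  simp only [h_sub_right, h_sm_right, h_self, huu, hvv, S.h_comm v u, huv, mul_zero, mul_one, sub_zero, sub_self,
    and_self]

/-- Linear over the extension. -/
def Lin (g : Isom Q) : Prop := ∀ x, ap g (S.J x) = S.J (ap g x)

/-- Semilinear over the extension. -/
def Anti (g : Isom Q) : Prop := ∀ x, ap g (S.J x) = -S.J (ap g x)

/-- Normalising the extension. -/
def InN (g : Isom Q) : Prop := S.Lin g ∨ S.Anti g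

theorem Lin.sm {g : Isom Q} (hg : S.Lin g) (k : 𝕂) (x : ι → F) : ap g (S.sm k x) = S.sm k (ap g x) := by
  rw [sm_apply, sm_apply, map_add, map_smul, map_smul, hg]

theorem Lin.mul {g g' : Isom Q} (hg : S.Lin g) (hg' : S.Lin g') : S.Lin (g * g') := fun x => by
  rw [ap_mul, ap_mul, hg', hg]

theorem Lin.inv {g : Isom Q} (hg : S.Lin g) : S.Lin g⁻¹ := fun x =>
  ap_injective g (by rw [ap_ap_inv, hg, ap_ap_inv])

theorem Anti.inv {g : Isom Q} (hg : S.Anti g) : S.Anti g⁻¹ := fun x =>
  ap_injective g (by rw [ap_ap_inv, map_neg, hg, ap_ap_inv, neg_neg])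

theorem InN.inv {g : Isom Q} (hg : S.InN g) : S.InN g⁻¹ := hg.imp (Lin.inv S) (Anti.inv S)

theorem InN.mul {g g' : Isom Q} (hg : S.InN g) (hg' : S.InN g') : S.InN (g * g') := by
  rcases hg with h | h <;> rcases hg' with h' | h'
  · exact Or.inl (h.mul S h')
  · exact Or.inr fun x => by rw [ap_mul, ap_mul, h', map_neg, h]
  · exact Or.inr fun x => by rw [ap_mul, ap_mul, h', h]
  · exact Or.inl fun x => by rw [ap_mul, ap_mul, h', map_neg, h, neg_neg]

/-- The Eichler map over the extension. -/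
def eichMap (u w : ι → F) : (ι → F) →ₗ[F] (ι → F) where
  toFun x := x + S.sm (S.h u x) w - S.sm (S.h w x + S.q w * S.h u x) u
  map_add' x y := by
    rw [h_add_right, h_add_right, add_sm, mul_add,
      show S.h w x + S.h w y + (S.q w * S.h u x + S.q w * S.h u y) =
        (S.h w x + S.q w * S.h u x) + (S.h w y + S.q w * S.h u y) by ring, add_sm]
    abel
  map_smul' r x := by
    have e : ∀ z : ι → F, S.h z (r • x) = r • S.h z x := fun z => by rw [h_comm, h_smul_left, h_comm]
    rw [RingHom.id_apply, e, e, mul_smul_comm, ← smul_add, smul_sm, smul_sm]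
    module

theorem eichMap_apply (u w x : ι → F) :
    S.eichMap u w x = x + S.sm (S.h u x) w - S.sm (S.h w x + S.q w * S.h u x) u := rfl

theorem eichMap_mul {u w w' : ι → F} (hu : S.q u = 0) (hw : S.h u w = 0) (hw' : S.h u w' = 0) (x : ι → F) :
    S.eichMap u w (S.eichMap u w' x) = S.eichMap u (w + w') x := by
  have huu : S.h u u = 0 := by rw [h_self, hu, mul_zero]
  have hwu : S.h w u = 0 := by rw [h_comm, hw]
  simp only [eichMap_apply, h_add_right, h_sub_right, h_sm_right, huu, hw', hwu, mul_zero, sub_zero,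
    add_zero, h_add_left, q_add]
  rw [show S.h w x + S.h w' x + (S.q w + S.q w' + S.h w w') * S.h u x =
      (S.h w' x + S.q w' * S.h u x) + (S.h w x + S.h u x * S.h w w' + S.q w * S.h u x) by ring,
    add_sm S (S.h w' x + S.q w' * S.h u x), map_add]
  abel

theorem eichMap_zero (u x : ι → F) : S.eichMap u 0 x = x := by
  simp [eichMap_apply, h_zero_left, q_zero, sm_zero_left]

theorem q_eichMap {u w : ι → F} (hu : S.q u = 0) (hw : S.h u w = 0) (x : ι → F) : S.q (S.eichMap u w x) = S.q x := by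
  simp only [eichMap_apply, q_sub, q_add, q_sm, h_add_left, h_sm_left, h_sm_right, hu, S.h_comm w u, hw,
    S.h_comm x w, S.h_comm x u]
  ring

theorem Q_eichMap {u w : ι → F} (hu : S.q u = 0) (hw : S.h u w = 0) (x : ι → F) : Q (S.eichMap u w x) = Q x :=
  congrArg QuadraticAlgebra.re (S.q_eichMap hu hw x)

/-- The Eichler element over the extension. -/
noncomputable def eK (u w : ι → F) (hu : S.q u = 0) (hw : S.h u w = 0) : Isom Q :=
  mkIso (S.eichMap u w) (S.eichMap u (-w))
    (fun x => by rw [S.eichMap_mul hu hw (by rw [h_neg_right, hw, neg_zero]), add_neg_cancel, eichMap_zero])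
    (fun x => by rw [S.eichMap_mul hu (by rw [h_neg_right, hw, neg_zero]) hw, neg_add_cancel, eichMap_zero])
    (S.Q_eichMap hu hw)

theorem ap_eK {u w : ι → F} (hu : S.q u = 0) (hw : S.h u w = 0) (x : ι → F) :
    ap (S.eK u w hu hw) x = x + S.sm (S.h u x) w - S.sm (S.h w x + S.q w * S.h u x) u := by
  rw [eK, ap_mkIso, eichMap_apply]

theorem ap_eK_perp {u w : ι → F} (hu : S.q u = 0) (hw : S.h u w = 0) {x : ι → F} (hx : S.h u x = 0) :
    ap (S.eK u w hu hw) x = x - S.sm (S.h w x) u := by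
  rw [ap_eK, hx, mul_zero, sm_zero_left, add_zero, add_zero]

theorem ap_eK_self {u w : ι → F} (hu : S.q u = 0) (hw : S.h u w = 0) : ap (S.eK u w hu hw) u = u := by
  rw [S.ap_eK_perp hu hw (by rw [h_self, hu, mul_zero]), S.h_comm, hw, sm_zero_left, sub_zero]

theorem lin_eK {u w : ι → F} (hu : S.q u = 0) (hw : S.h u w = 0) : S.Lin (S.eK u w hu hw) := fun x => by
  simp only [ap_eK, map_add, map_sub, J_sm]
  simp only [J_eq S x, J_eq S u, J_eq S w, h_sm_right, sm_sm]
  congr 3 <;> ring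

variable [Fintype F]

theorem eK_mem_omega {u w : ι → F} (hu : S.q u = 0) (hw : S.h u w = 0) :
    S.eK u w hu hw ∈ Cfsg.Omega F ⇑Q := by
  have h2 : S.h u ((2 : F)⁻¹ • w) = 0 := by rw [h_comm, h_smul_left, h_comm, hw, smul_zero]
  have e : S.eK u w hu hw = S.eK u _ hu h2 * S.eK u _ hu h2 := ext_ap fun x => by
    rw [ap_mul]
    simp only [eK, ap_mkIso]
    rw [S.eichMap_mul hu h2 h2, ← add_smul, ← two_mul, mul_inv_cancel₀ S.two, one_smul]
  rw [e]
  exact sq_mem_omega S.nondeg S.two _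

theorem exists_neg_one_sq : ∃ i : 𝕂, i * i = -1 := by
  haveI : Finite 𝕂 := Module.finite_of_finite F
  haveI : Fintype 𝕂 := Fintype.ofFinite _
  have hcard : Fintype.card 𝕂 = Fintype.card F ^ 2 := by
    rw [Module.card_eq_pow_finrank (K := F) (V := 𝕂), QuadraticAlgebra.finrank_eq_two]
  obtain ⟨i, hi⟩ : IsSquare (-1 : 𝕂) := by
    rw [FiniteField.isSquare_neg_one_iff, hcard, Nat.pow_mod]
    have : Fintype.card F % 4 < 4 := Nat.mod_lt _ (by norm_num)
    interval_cases Fintype.card F % 4 <;> norm_num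
  exact ⟨i, hi.symm⟩

end SStr

end CfsgLib.OrthExtTwo
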