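import Cfsg.Agent.OrthExtTwo.Finish

/-!
# The endgame for overgroups of the normaliser of a self-adjoint quadratic extension

A central involution of the group of a bad involution and a generic hyperbolic involution gives a contradiction.
-/

set_option autoImplicit false
set_option linter.unusedSectionVars false

namespace CfsgLib.OrthExtTwo

open Matrix Module CfsgLib.Spinor CfsgLib.Forms CfsgLib.Forms4 CfsgLib.OrthMax CfsgLib.OrthMono

variable {F : Type*} [Field F] {ι : Type} [Fintype ι] [DecidableEq ι] {Q : QuadraticForm F (ι → F)}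
variable {δ : F} [hδ : Fact (∀ r : F, r ^ 2 ≠ δ + 0 * r)]

set_option quotPrecheck false in
local notation "𝔅" => QuadraticMap.polar (⇑Q)

local notation "𝕂" => QuadraticAlgebra F δ 0

namespace SStr

variable (S : SStr Q δ)

theorem finrank_sup_line_le (T : Submodule F (ι → F)) (u : ι → F) :
    finrank F ↥(T ⊔ S.line u) ≤ finrank F T + 2 := by
  have := Submodule.finrank_add_le_finrank_add_finrank T (S.line u)
  have := S.finrank_line_le u
  omega

/-- A hyperbolic pair in general position with two vectors. -/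
theorem exists_pair_avoiding [Fintype F] (hn : 10 ≤ Fintype.card ι) {s₁ s₂ : ι → F} (hs : s₂ ∉ S.line s₁)
    (hs1 : s₁ ≠ 0) :
    ∃ u v, S.q u = 0 ∧ S.q v = 0 ∧ S.h u v = 1 ∧
      (∀ x ∈ S.line u ⊔ S.line v, x ∈ S.line s₁ ⊔ S.line s₂ → x = 0) ∧
      ∀ x ∈ S.line u ⊔ S.line v, S.h s₁ x = 0 → S.h s₂ x = 0 → x = 0 := by
  have hfull : finrank F (⊤ : Submodule F (ι → F)) = Fintype.card ι := by rw [finrank_top, Module.finrank_pi]
  obtain ⟨K, hK⟩ : ∃ K, K = S.line s₁ ⊔ S.line s₂ := ⟨_, rfl⟩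
  have hKd : finrank F K ≤ 4 := by
    rw [hK]
    have := S.finrank_sup_line_le (S.line s₁) s₂
    have := S.finrank_line_le s₁
    omega
  have hs1K : s₁ ∈ K := by rw [hK]; exact Submodule.mem_sup_left (S.self_mem_line _)
  have hs2K : s₂ ∈ K := by rw [hK]; exact Submodule.mem_sup_right (S.self_mem_line _)
  have hKJ : S.Stable K := by rw [hK]; exact (S.stable_line _).sup S (S.stable_line _)
  -- a singular vector outside both
  obtain ⟨u, hu, huK, huR⟩ : ∃ u, S.q u = 0 ∧ u ∉ K ∧ ¬(S.h s₁ u = 0 ∧ S.h s₂ u = 0) := by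
    obtain ⟨z, -, hz0, hz⟩ := S.exists_ksing (T := ⊤) (fun x _ => Submodule.mem_top) (by omega)
    obtain ⟨z', hz', hzz⟩ := S.exists_partner hz0 hz
    have hspan := fun x => S.mem_span_ksing (T := ⊤) (fun _ _ => Submodule.mem_top) Submodule.mem_top
      Submodule.mem_top hz hz' (by rw [hzz]; exact one_ne_zero) (x := x) Submodule.mem_top
    by_contra! hall
    by_cases hA : ∀ b, S.q b = 0 → b ∈ K
    · have hle := Submodule.finrank_mono (show (⊤ : Submodule F (ι → F)) ≤ K from fun x _ =>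
        Submodule.span_le.2 (fun b hb => hA b hb.2) (hspan x))
      omega
    · push Not at hA
      obtain ⟨k, hk, hkK⟩ := hA
      by_cases hB : ∀ b, S.q b = 0 → b ∈ S.perp s₁ ⊓ S.perp s₂
      · have h1 : ∀ x, x ∈ S.perp s₁ := fun x =>
          (Submodule.span_le.2 (fun b hb => (hB b hb.2).1) (hspan x) : x ∈ S.perp s₁)
        obtain ⟨x, hx⟩ : ∃ x, S.h s₁ x ≠ 0 := by
          by_contra! hc
          exact hs1 (S.nondeg.1 s₁ fun x => by
            rw [QuadraticMap.polarBilin_apply_apply]; exact S.polar_eq_zero_of_h (hc x))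
        exact hx (h1 x)
      · push Not at hB
        obtain ⟨l, hl, hlR⟩ := hB
        have hlK : l ∈ K := by
          by_contra hlK
          exact hlR ⟨(hall l hl hlK).1, (hall l hl hlK).2⟩
        obtain ⟨hk1, hk2⟩ := hall k hk hkK
        have hkl : S.h k l = 0 := by
          rw [hK] at hlK
          obtain ⟨_, ⟨a, rfl⟩, _, ⟨b, rfl⟩, rfl⟩ := Submodule.mem_sup.1 hlK
          rw [h_add_right, h_sm_right, h_sm_right, S.h_comm k s₁, hk1, S.h_comm k s₂, hk2, mul_zero, mul_zero,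
            add_zero]
        have hR := hall (k + l) (by rw [q_add, hk, hl, hkl, add_zero, add_zero])
          (fun h => hkK (by simpa using K.sub_mem h hlK))
        refine hlR ⟨?_, ?_⟩
        · have := hR.1
          rwa [h_add_right, hk1, zero_add] at this
        · have := hR.2
          rwa [h_add_right, hk2, zero_add] at this
  -- the partner
  obtain ⟨c, hc⟩ : ∃ c, c = S.sm (S.h s₁ u) s₂ - S.sm (S.h s₂ u) s₁ := ⟨_, rfl⟩
  have hcu : S.h c u = 0 := by rw [hc, h_sub_left, h_sm_left, h_sm_left]; ring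
  have hc0 : c ≠ 0 := by
    intro e
    rw [hc, sub_eq_zero] at e
    by_cases h1 : S.h s₁ u = 0
    · rw [h1, sm_zero_left] at e
      exact huR ⟨h1, (S.sm_eq_zero e.symm).resolve_right hs1⟩
    · refine hs ⟨(S.h s₁ u)⁻¹ * S.h s₂ u, ?_⟩
      rw [← sm_sm, ← e, S.sm_inv_sm h1]
  have hu0 : u ≠ 0 := fun e => huK (by rw [e]; exact K.zero_mem)
  obtain ⟨C, hC⟩ : ∃ C, C = K ⊔ S.line u := ⟨_, rfl⟩
  have hCJ : S.Stable C := by rw [hC]; exact hKJ.sup S (S.stable_line u)
  have huC : u ∈ C := by rw [hC]; exact Submodule.mem_sup_right (S.self_mem_line u)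
  obtain ⟨x, hxu, hxc, hxC⟩ : ∃ x, S.h u x ≠ 0 ∧ S.h c x ≠ 0 ∧ x ∉ C := by
    have hne : ∀ a : ι → F, a ≠ 0 → ∃ x, S.h a x ≠ 0 := fun a ha => by
      by_contra! hc'
      exact ha (S.nondeg.1 a fun y => by
        rw [QuadraticMap.polarBilin_apply_apply]; exact S.polar_eq_zero_of_h (hc' y))
    obtain ⟨x₁, hx₁⟩ := hne u hu0
    obtain ⟨x₂, hx₂⟩ := hne c hc0
    obtain ⟨v, hvu, hvc⟩ : ∃ v, S.h u v ≠ 0 ∧ S.h c v ≠ 0 := by
      by_cases h1 : S.h c x₁ = 0
      · by_cases h2 : S.h u x₂ = 0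
        · exact ⟨x₁ + x₂, by rwa [h_add_right, h2, add_zero], by rwa [h_add_right, h1, zero_add]⟩
        · exact ⟨x₂, h2, hx₂⟩
      · exact ⟨x₁, hx₁, h1⟩
    by_cases hvC : v ∉ C
    · exact ⟨v, hvu, hvc, hvC⟩
    rw [not_not] at hvC
    obtain ⟨r, hr⟩ : ∃ r, r ∉ C := by
      by_contra! hC'
      have h1 := Submodule.finrank_mono (show (⊤ : Submodule F (ι → F)) ≤ C from fun x _ => hC' x)
      have h2 := S.finrank_sup_line_le K u
      rw [← hC] at h2
      omega
    have hout : ∀ t : 𝕂, t ≠ 0 → v + S.sm t r ∉ C := fun t ht h => hr (by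
      have := hCJ.sm S t⁻¹ (C.sub_mem h hvC)
      rwa [add_sub_cancel_left, S.sm_inv_sm ht] at this)
    have huniq : ∀ a : ι → F, S.h a v ≠ 0 → ∀ t t' : 𝕂, t ≠ t' →
        ¬(S.h a (v + S.sm t r) = 0 ∧ S.h a (v + S.sm t' r) = 0) := by
      rintro a hav t t' hne ⟨e1, e2⟩
      rw [h_add_right, h_sm_right] at e1 e2
      have e3 : (t - t') * S.h a r = 0 := by linear_combination e1 - e2
      rw [(mul_eq_zero.1 e3).resolve_left (sub_ne_zero.2 hne), mul_zero, add_zero] at e1
      exact hav e1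
    have n1 : (1 : 𝕂) ≠ -1 := fun h => S.two_K (by linear_combination h)
    have n2 : (1 : 𝕂) ≠ ⟨0, 1⟩ := fun h => by
      have := congrArg QuadraticAlgebra.re h
      simp [QuadraticAlgebra.re_one] at this
    have n3 : (-1 : 𝕂) ≠ ⟨0, 1⟩ := fun h => by
      have := congrArg QuadraticAlgebra.re h
      simp [QuadraticAlgebra.re_neg, QuadraticAlgebra.re_one] at this
    have n4 : (⟨0, 1⟩ : 𝕂) ≠ 0 := fun h => by
      have := congrArg QuadraticAlgebra.im h
      simp at this
    by_contra! hall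
    have key : ∀ t : 𝕂, t ≠ 0 → S.h u (v + S.sm t r) = 0 ∨ S.h c (v + S.sm t r) = 0 := fun t ht => by
      by_contra! h
      exact hout t ht (hall _ h.1 h.2)
    rcases key 1 one_ne_zero with a | a <;> rcases key (-1) (neg_ne_zero.2 one_ne_zero) with b | b <;>
      rcases key ⟨0, 1⟩ n4 with d | d
    all_goals
      first
        | exact huniq u hvu _ _ n1 ⟨a, b⟩
        | exact huniq u hvu _ _ n2 ⟨a, d⟩
        | exact huniq u hvu _ _ n3 ⟨b, d⟩
        | exact huniq c hvc _ _ n1 ⟨a, b⟩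
        | exact huniq c hvc _ _ n2 ⟨a, d⟩
        | exact huniq c hvc _ _ n3 ⟨b, d⟩
  obtain ⟨v₀, hv₀⟩ : ∃ v₀, v₀ = S.sm (S.h u x)⁻¹ x := ⟨_, rfl⟩
  have h0u : S.h u v₀ = 1 := by rw [hv₀, h_sm_right, inv_mul_cancel₀ hxu]
  obtain ⟨v, hv⟩ : ∃ v, v = v₀ - S.sm (S.q v₀) u := ⟨_, rfl⟩
  have hvq : S.q v = 0 := by rw [hv, q_sub, q_sm, hu, h_sm_right, S.h_comm v₀ u, h0u]; ring
  have huv : S.h u v = 1 := by rw [hv, h_sub_right, h_sm_right, h_self, hu, h0u]; ring
  have hcv : S.h c v ≠ 0 := by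
    rw [hv, h_sub_right, h_sm_right, hcu, mul_zero, sub_zero, hv₀, h_sm_right]
    exact mul_ne_zero (inv_ne_zero hxu) hxc
  have hvC : v ∉ C := fun h => hxC (by
    have h1 := C.add_mem h (hCJ.sm S (S.q v₀) huC)
    rw [hv, sub_add_cancel, hv₀] at h1
    have := hCJ.sm S (S.h u x) h1
    rwa [sm_sm, mul_inv_cancel₀ hxu, sm_one] at this)
  refine ⟨u, v, hu, hvq, huv, ?_, ?_⟩
  · intro y hy hyK
    rw [← hK] at hyK
    obtain ⟨_, ⟨a, rfl⟩, _, ⟨b, rfl⟩, rfl⟩ := Submodule.mem_sup.1 hy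
    have hb : b = 0 := by
      by_contra hb
      refine hvC ?_
      have h1 : S.sm a u + S.sm b v ∈ C := by rw [hC]; exact Submodule.mem_sup_left hyK
      have h2 := hCJ.sm S b⁻¹ (C.sub_mem h1 (hCJ.sm S a huC))
      rwa [add_sub_cancel_left, S.sm_inv_sm hb] at h2
    rw [hb, sm_zero_left, add_zero] at hyK ⊢
    by_contra h0
    have ha : a ≠ 0 := fun e => h0 (by rw [e, sm_zero_left])
    exact huK (by simpa [S.sm_inv_sm ha] using hKJ.sm S a⁻¹ hyK)
  · intro y hy h1 h2
    obtain ⟨_, ⟨a, rfl⟩, _, ⟨b, rfl⟩, rfl⟩ := Submodule.mem_sup.1 hy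
    rw [h_add_right, h_sm_right, h_sm_right] at h1 h2
    have hb : b = 0 := by
      have e : b * S.h c v = 0 := by
        rw [hc, h_sub_left, h_sm_left, h_sm_left]
        linear_combination (S.h s₁ u) * h2 - (S.h s₂ u) * h1
      exact (mul_eq_zero.1 e).resolve_right hcv
    rw [hb, zero_mul, add_zero] at h1 h2
    rw [hb, sm_zero_left, add_zero]
    rcases mul_eq_zero.1 h1 with h | h
    · rw [h, sm_zero_left]
    rcases mul_eq_zero.1 h2 with h' | h'
    · rw [h', sm_zero_left]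
    exact absurd ⟨h, h'⟩ huR

variable [Fintype F] {M : Subgroup (Isom Q)}

/-- Elements moving every vector inside a subspace are closed under products. -/
theorem sub_mem_of_mul {U : Submodule F (ι → F)} {a b : Isom Q} (ha : ∀ x, ap a x - x ∈ U)
    (hb : ∀ x, ap b x - x ∈ U) (x : ι → F) : ap (a * b) x - x ∈ U := by
  have := U.add_mem (ha (ap b x)) (hb x)
  rwa [sub_add_sub_cancel, ← ap_mul] at this

/-- An element outside the normaliser of the extension generates `Ω` with it. -/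
theorem omega_le_of_not_inN (hn : 10 ≤ Fintype.card ι) (hH : S.Contains M) (hMΩ : M ≤ Cfsg.Omega F ⇑Q)
    {g : Isom Q} (hg : g ∈ M) (hgN : ¬ S.InN g) : Cfsg.Omega F ⇑Q ≤ M := by
  by_contra hle
  have hB := S.lineRule_of_not_le hn hH hMΩ hle
  obtain ⟨w, hwM, s₁, s₂, hww, hs, hs1, hwneg, hwd, hSJ⟩ := S.exists_bad hn hH hB hg hgN
  obtain ⟨u, v, hu, hv, huv, hPK, hPR⟩ := S.exists_pair_avoiding hn hs hs1
  obtain ⟨z, hzΩ, hzl, hz⟩ := S.exists_pairInvol hu hv huv
  have hzM : z ∈ M := hH z hzΩ (Or.inl hzl)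
  obtain ⟨T, hT⟩ : ∃ T, T = Submodule.span F {s₁, s₂} := ⟨_, rfl⟩
  rw [← hT] at hwneg hwd hSJ
  obtain ⟨P, hP⟩ : ∃ P, P = S.line u ⊔ S.line v := ⟨_, rfl⟩
  have hPd : finrank F P = 4 := by rw [hP]; exact S.finrank_pair hu hv huv
  have hTd : finrank F T ≤ 2 := by
    rw [hT]
    have h1 : ({s₁, s₂} : Set (ι → F)) = Set.range ![s₁, s₂] := by simp [Matrix.range_cons, Set.pair_comm]
    rw [h1]
    exact (finrank_range_le_card _).trans (by simp)
  obtain ⟨K, hK⟩ : ∃ K, K = S.line s₁ ⊔ S.line s₂ := ⟨_, rfl⟩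
  have hKJ : S.Stable K := by rw [hK]; exact (S.stable_line _).sup S (S.stable_line _)
  have hTK : T ≤ K := by
    rw [hT, hK, Submodule.span_le]
    rintro x (rfl | rfl)
    · exact Submodule.mem_sup_left (S.self_mem_line _)
    · exact Submodule.mem_sup_right (S.self_mem_line _)
  have hPK' : ∀ x ∈ P, x ∈ K → x = 0 := by rw [hP, hK]; exact hPK
  have hPJ : S.Stable P := by rw [hP]; exact (S.stable_line u).sup S (S.stable_line v)
  have huP : u ∈ P := by rw [hP]; exact Submodule.mem_sup_left (S.self_mem_line u)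
  have hvP : v ∈ P := by rw [hP]; exact Submodule.mem_sup_right (S.self_mem_line v)
  have hzd : ∀ x, ap z x - x ∈ P := fun x => by
    rw [hz, show ∀ a b : ι → F, x - a - b - x = -(a + b) from fun a b => by abel]
    exact P.neg_mem (P.add_mem (hPJ.sm S _ huP) (hPJ.sm S _ hvP))
  have hzneg : ∀ x ∈ P, ap z x = -x := by
    rw [hP]
    intro x hx
    obtain ⟨_, ⟨a, rfl⟩, _, ⟨b, rfl⟩, rfl⟩ := Submodule.mem_sup.1 hx
    rw [hz]
    simp only [h_add_right, h_sm_right, h_self, hu, hv, huv, S.h_comm v u, mul_zero, mul_one, zero_add, add_zero,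
      two_mul, add_sm]
    abel
  have hzz : z * z = 1 := ext_ap fun x => by
    have h1 := hzneg _ (hzd x)
    rw [map_sub, neg_sub, sub_eq_iff_eq_add, sub_add_cancel] at h1
    rw [ap_mul, ap_one, h1]
  obtain ⟨m, hm1, hm2, hm3, hm4⟩ := exists_central hzz hww (by
    by_contra ho
    obtain ⟨f, hf⟩ := exists_conj_of_odd hzz hww (Nat.not_even_iff_odd.1 ho)
    have hle' : P.map (ap f) ≤ T := by
      rintro _ ⟨x, hx, rfl⟩
      have h1 : ap w (ap f x) = -ap f x := by
        rw [← hf, ap_mul, ap_mul, ap_inv_ap, hzneg x hx, map_neg]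
      have h2 := hwd (ap f x)
      rw [h1, show -ap f x - ap f x = (-2 : F) • ap f x by module] at h2
      exact (T.smul_mem_iff (neg_ne_zero.2 S.two)).1 h2
    have h3 := Submodule.finrank_mono hle'
    rw [← (Submodule.equivMapOfInjective _ (ap_injective f) _).finrank_eq, hPd] at h3
    omega)
  obtain ⟨c, hc⟩ : ∃ c, c = (z * w) ^ m := ⟨_, rfl⟩
  rw [← hc] at hm1 hm2 hm3 hm4
  have hcM : c ∈ M := by rw [hc]; exact pow_mem (mul_mem hzM hwM) m
  obtain ⟨U, hU⟩ : ∃ U, U = P ⊔ T := ⟨_, rfl⟩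
  have hUd : finrank F U ≤ 6 := by
    rw [hU]
    have := Submodule.finrank_add_le_finrank_add_finrank P T
    omega
  have hcd : ∀ x, ap c x - x ∈ U := by
    rw [hc]
    have hzw : ∀ x, ap (z * w) x - x ∈ U := sub_mem_of_mul
      (fun x => by rw [hU]; exact Submodule.mem_sup_left (hzd x))
      (fun x => by rw [hU]; exact Submodule.mem_sup_right (hwd x))
    clear hc hm1 hm2 hm3 hm4
    induction m with
    | zero => intro x; rw [pow_zero, ap_one, sub_self]; exact U.zero_mem
    | succ k ih => rw [pow_succ]; exact sub_mem_of_mul ih hzw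
  have hcN : S.InN c := S.inN_of_lin_conj hu hv huv hn hH hB hz hcM (by
    rw [← hm3, mul_inv_cancel_right]; exact hzl)
  obtain ⟨E, hE⟩ : ∃ E, E = LinearMap.ker (ap c + LinearMap.id) := ⟨_, rfl⟩
  have hEmem : ∀ x, x ∈ E ↔ ap c x = -x := fun x => by
    rw [hE, LinearMap.mem_ker, LinearMap.add_apply, LinearMap.id_apply, add_eq_zero_iff_eq_neg]
  have hEU : E ≤ U := fun x hx => by
    have h2 := hcd x
    rw [(hEmem x).1 hx, show -x - x = (-2 : F) • x by module] at h2
    exact (U.smul_mem_iff (neg_ne_zero.2 S.two)).1 h2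
  have hcc : ∀ x, ap c (ap c x) = x := fun x => by rw [← ap_mul, hm2, ap_one]
  rcases hcN with hL | hA
  · -- the linear case
    have hEJ : S.Stable E := fun x hx => (hEmem _).2 (by rw [hL, (hEmem x).1 hx, map_neg])
    have hEP : E ≤ P := by
      intro x hx
      have h1 := hEU hx
      rw [hU, Submodule.mem_sup] at h1
      obtain ⟨p, hp, s, hs', rfl⟩ := h1
      have h2 := hEU (hEJ _ hx)
      rw [hU, Submodule.mem_sup, map_add] at h2
      obtain ⟨p', hp', s', hs'', e⟩ := h2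
      have h3 : S.J s - s' = p' - S.J p := by linear_combination (norm := abel) -e
      have h4 : S.J s - s' = 0 := hPK' _ (by rw [h3]; exact P.sub_mem hp' (hPJ p hp))
        (K.sub_mem (hKJ s (hTK hs')) (hTK hs''))
      rw [sub_eq_zero] at h4
      have h5 := hSJ s hs' (by rw [h4]; exact hs'')
      rw [h5, add_zero]
      exact hp
    have hfix : ∀ s ∈ T, ap c s = s := by
      intro s hs'
      have hcs : ap c s ∈ T := by
        have h1 : ap w (ap c s) = -ap c s := by rw [← ap_mul, hm4, ap_mul, hwneg s hs', map_neg]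
        have h2 := hwd (ap c s)
        rw [h1, show -ap c s - ap c s = (-2 : F) • ap c s by module] at h2
        exact (T.smul_mem_iff (neg_ne_zero.2 S.two)).1 h2
      have hE' : ap c s - s ∈ E := (hEmem _).2 (by rw [map_sub, hcc, neg_sub])
      exact sub_eq_zero.1 (hPK' _ (hEP hE') (hTK (T.sub_mem hcs hs')))
    have hEperp : ∀ e ∈ E, ∀ s ∈ T, 𝔅 s e = 0 ∧ 𝔅 (S.J s) e = 0 := by
      intro e he s hs'
      have key : ∀ y, ap c y = y → 𝔅 y e = 0 := fun y hy => by
        have h1 := polar_ap c y e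
        rw [hy, (hEmem e).1 he, QuadraticMap.polar_neg_right] at h1
        have h2 : (2 : F) * 𝔅 y e = 0 := by linear_combination -h1
        exact (mul_eq_zero.1 h2).resolve_left S.two
      exact ⟨key s (hfix s hs'), key _ (by rw [hL, hfix s hs'])⟩
    refine hm1 (ext_ap fun x => ?_)
    rw [ap_one]
    have hE' : ap c x - x ∈ E := (hEmem _).2 (by rw [map_sub, hcc, neg_sub])
    have hs1T : s₁ ∈ T := by rw [hT]; exact Submodule.subset_span (by simp)
    have hs2T : s₂ ∈ T := by rw [hT]; exact Submodule.subset_span (by simp)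
    have hR := hPR _ (by rw [← hP]; exact hEP hE') (S.h_eq_zero.2 (hEperp _ hE' s₁ hs1T))
      (S.h_eq_zero.2 (hEperp _ hE' s₂ hs2T))
    exact sub_eq_zero.1 hR
  · -- the semilinear case
    obtain ⟨E', hE'⟩ : ∃ E', E' = LinearMap.ker (ap c - LinearMap.id) := ⟨_, rfl⟩
    have hE'mem : ∀ x, x ∈ E' ↔ ap c x = x := fun x => by
      rw [hE', LinearMap.mem_ker, LinearMap.sub_apply, LinearMap.id_apply, sub_eq_zero]
    have hsup : (⊤ : Submodule F (ι → F)) ≤ E ⊔ E' := fun x _ => by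
      refine Submodule.mem_sup.2 ⟨(2 : F)⁻¹ • (x - ap c x), (hEmem _).2 ?_, (2 : F)⁻¹ • (x + ap c x),
        (hE'mem _).2 ?_, ?_⟩
      · rw [map_smul, map_sub, hcc, ← smul_neg, neg_sub]
      · rw [map_smul, map_add, hcc, add_comm]
      · rw [← smul_add, sub_add_add_cancel, ← two_smul F, inv_smul_smul₀ S.two]
    have hJinj : Function.Injective S.J := fun a b e => by
      have := congrArg S.J e
      rw [S.sq, S.sq] at this
      exact smul_right_injective _ (delta_ne (δ := δ)) this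
    have hmap : E'.map S.J ≤ E := by
      rintro _ ⟨x, hx, rfl⟩
      rw [hEmem, hA, (hE'mem x).1 hx]
    have hd1 := Submodule.finrank_mono hsup
    rw [finrank_top, Module.finrank_pi] at hd1
    have hd2 := Submodule.finrank_add_le_finrank_add_finrank E E'
    have hd3 := Submodule.finrank_mono hmap
    rw [← (Submodule.equivMapOfInjective _ hJinj _).finrank_eq] at hd3
    obtain ⟨X, hX⟩ : ∃ X, X = E ⊓ P := ⟨_, rfl⟩
    have hd4 := Submodule.finrank_sup_add_finrank_inf_eq E P
    rw [← hX] at hd4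
    have hd5 := Submodule.finrank_mono (sup_le hEU (show P ≤ U by rw [hU]; exact le_sup_left))
    have hd6 := Submodule.finrank_sup_add_finrank_inf_eq X (X.map S.J)
    have hbot : X ⊓ X.map S.J = ⊥ := le_bot_iff.1 fun x hx => by
      obtain ⟨h1, y, hy, rfl⟩ := hx
      have e1 := (hEmem _).1 (by rw [hX] at h1; exact h1.1)
      have e2 := hA y
      rw [(hEmem y).1 (by rw [hX] at hy; exact hy.1), map_neg, neg_neg, e1] at e2
      have h2 : (2 : F) • S.J y = 0 := by rw [two_smul]; nth_rewrite 1 [← e2]; exact neg_add_cancel _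
      rw [Submodule.mem_bot]
      exact (smul_eq_zero.1 h2).resolve_left S.two
    rw [hbot, finrank_bot, ← (Submodule.equivMapOfInjective _ hJinj _).finrank_eq] at hd6
    have hd7 := Submodule.finrank_mono (show X ⊔ X.map S.J ≤ P from
      sup_le (by rw [hX]; exact inf_le_right) (by
        rintro _ ⟨y, hy, rfl⟩
        rw [hX] at hy
        exact hPJ y hy.2))
    omega

end SStr

end CfsgLib.OrthExtTwo
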