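import Cfsg.Agent.OrthExtTwo.Roots

/-!
# Overgroups of the normaliser of a self-adjoint quadratic extension

`omega_le_of_not_inN`: from dimension ten an element outside the normaliser generates `Ω` with it.
-/

set_option autoImplicit false
set_option linter.unusedSectionVars false

namespace CfsgLib.OrthExtTwo

open Matrix Module CfsgLib.Spinor CfsgLib.Forms CfsgLib.Forms4 CfsgLib.OrthMax CfsgLib.OrthMono

variable {F : Type*} [Field F] {ι : Type} [Fintype ι] [DecidableEq ι] {Q : QuadraticForm F (ι → F)}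
variable {δ : F} [hδ : Fact (∀ r : F, r ^ 2 ≠ δ + 0 * r)]

set_option quotPrecheck false in
local notation "𝔅" => QuadraticMap.polar (⇑Q)

local notation "𝕂" => QuadraticAlgebra F δ 0

/-- The conjugate. -/
def cj (k : 𝕂) : 𝕂 := ⟨k.re, -k.im⟩

/-- The inverse of an element of norm `δ`. -/
def kinv (κ : 𝕂) : 𝕂 := ⟨κ.re / δ, -κ.im / δ⟩

theorem kinv_mul {κ : 𝕂} (hκ : SStr.nm κ = δ) : kinv κ * κ = 1 := by
  have hd := delta_ne (δ := δ)
  ext <;> simp only [kinv, QuadraticAlgebra.re_mul, QuadraticAlgebra.im_mul, QuadraticAlgebra.re_one,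
    QuadraticAlgebra.im_one] <;> field_simp
  · rw [SStr.nm] at hκ
    linear_combination hκ
  · ring

theorem kinv_neg (κ : 𝕂) : kinv (-κ) = -kinv κ := by
  ext <;> simp [kinv, QuadraticAlgebra.re_neg, QuadraticAlgebra.im_neg, neg_div]

namespace SStr

variable (S : SStr Q δ)

/-- A square root of the reflection in an anisotropic line of the extension. -/
def rotMap (a : ι → F) (κ : 𝕂) (e : F) : (ι → F) →ₗ[F] (ι → F) where
  toFun x := x + S.sm ((⟨0, e / (2 * δ)⟩ : 𝕂) * cj (S.h a x) - (2 : F)⁻¹ • (kinv κ * S.h a x)) a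
  map_add' x y := by
    rw [h_add_right, show cj (S.h a x + S.h a y) = cj (S.h a x) + cj (S.h a y) by
      ext <;> simp [cj, QuadraticAlgebra.re_add, QuadraticAlgebra.im_add, add_comm],
      mul_add, mul_add, smul_add, sub_sm, sub_sm, sub_sm, add_sm, add_sm]
    abel
  map_smul' r x := by
    rw [RingHom.id_apply, show S.h a (r • x) = r • S.h a x by rw [h_comm, h_smul_left, h_comm],
      show cj (r • S.h a x) = r • cj (S.h a x) by
        ext <;> simp [cj, QuadraticAlgebra.re_smul, QuadraticAlgebra.im_smul],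
      mul_smul_comm, mul_smul_comm, smul_comm (2 : F)⁻¹ r, ← smul_sub, smul_sm, smul_add]

theorem rotMap_apply (a : ι → F) (κ : 𝕂) (e : F) (x : ι → F) : S.rotMap a κ e x =
    x + S.sm ((⟨0, e / (2 * δ)⟩ : 𝕂) * cj (S.h a x) - (2 : F)⁻¹ • (kinv κ * S.h a x)) a := rfl

section
variable {a : ι → F} {κ : QuadraticAlgebra F δ 0} (ha : S.q a = κ) (hκ : nm κ = δ)
include ha hκ

theorem h_rotMap (e : F) (x : ι → F) :
    S.h a (S.rotMap a κ e x) = 2 * κ * ((⟨0, e / (2 * δ)⟩ : 𝕂) * cj (S.h a x)) := by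
  have hi := kinv_mul hκ
  have h2 := S.two
  rw [rotMap_apply, h_add_right, h_sm_right, h_self, ha]
  have : (2 : F)⁻¹ • (kinv κ * S.h a x) * (2 * κ) = S.h a x := by
    rw [smul_mul_assoc, show kinv κ * S.h a x * (2 * κ) = (kinv κ * κ) * (2 * S.h a x) by ring, hi, one_mul, two_mul,
      ← two_smul F, inv_smul_smul₀ h2]
  linear_combination -this

theorem rotMap_rotMap (e f : F) (x : ι → F) : S.rotMap a κ e (S.rotMap a κ f x) =
    x - S.sm (((1 + e * f) / 2) • (kinv κ * S.h a x)) a := by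
  have hd := delta_ne (δ := δ)
  have h2 := S.two
  have hn := hκ
  rw [nm] at hn
  rw [rotMap_apply S a κ e, S.h_rotMap ha hκ, rotMap_apply, add_assoc, ← add_sm,
    show ∀ K : 𝕂, x - S.sm K a = x + S.sm (-K) a from fun K => by rw [neg_sm, sub_eq_add_neg]]
  refine congrArg (fun k => x + S.sm k a) ?_
  rw [show (2 : 𝕂) = ⟨2, 0⟩ from QuadraticAlgebra.ext (by simp [QuadraticAlgebra.re_ofNat])
    (by simp [QuadraticAlgebra.im_ofNat])]
  ext <;> simp only [cj, kinv, QuadraticAlgebra.re_mul, QuadraticAlgebra.im_mul, QuadraticAlgebra.re_add,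
    QuadraticAlgebra.im_add, QuadraticAlgebra.re_sub, QuadraticAlgebra.im_sub, QuadraticAlgebra.re_neg,
    QuadraticAlgebra.im_neg, QuadraticAlgebra.re_smul, QuadraticAlgebra.im_smul, smul_eq_mul] <;>
    field_simp <;> grind

theorem Q_rotMap {e : F} (he : e * e = 1) (x : ι → F) : Q (S.rotMap a κ e x) = Q x := by
  have hd := delta_ne (δ := δ)
  have h2 := S.two
  rw [rotMap_apply, ← S.re_q, ← S.re_q x, q_add, q_sm, ha, h_sm_right, S.h_comm x a]
  obtain ⟨A, hA⟩ : ∃ A, A = S.h a x := ⟨_, rfl⟩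
  have hn := hκ
  rw [nm] at hn
  rw [← hA]
  simp only [cj, kinv, QuadraticAlgebra.re_mul, QuadraticAlgebra.im_mul, QuadraticAlgebra.re_add,
    QuadraticAlgebra.re_sub, QuadraticAlgebra.im_sub, QuadraticAlgebra.re_smul, QuadraticAlgebra.im_smul,
    smul_eq_mul]
  field_simp
  grind

/-- The isometry of `rotMap`. -/
noncomputable def rot : Isom Q :=
  mkIso (S.rotMap a κ 1) (S.rotMap a κ (-1))
    (fun x => by rw [S.rotMap_rotMap ha hκ]; simp [sm_zero_left])
    (fun x => by rw [S.rotMap_rotMap ha hκ]; simp [sm_zero_left])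
    (S.Q_rotMap ha hκ (one_mul 1))

theorem ap_rot_sq (x : ι → F) :
    ap (S.rot ha hκ * S.rot ha hκ) x = x - S.sm (kinv κ * S.h a x) a := by
  rw [ap_mul, show ∀ y, ap (S.rot ha hκ) y = S.rotMap a κ 1 y from fun y => ap_mkIso _ _ _ _ _ y,
    show ∀ y, ap (S.rot ha hκ) y = S.rotMap a κ 1 y from fun y => ap_mkIso _ _ _ _ _ y, S.rotMap_rotMap ha hκ,
    show (1 + (1 : F) * 1) / 2 = 1 by rw [one_mul, ← two_mul, mul_one, div_self S.two], one_smul]

theorem lin_rot_sq : S.Lin (S.rot ha hκ * S.rot ha hκ) := fun x => by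
  simp only [S.ap_rot_sq ha hκ, map_sub, J_sm]
  simp only [J_eq S x, J_eq S a, h_sm_right, sm_sm]
  congr 2
  ring_nf

theorem rot_sq_sq : (S.rot ha hκ * S.rot ha hκ) * (S.rot ha hκ * S.rot ha hκ) = 1 := ext_ap fun x => by
  rw [ap_mul, S.ap_rot_sq ha hκ, S.ap_rot_sq ha hκ, ap_one, h_sub_right, h_sm_right, h_self, ha,
    show kinv κ * (S.h a x - kinv κ * S.h a x * (2 * κ)) = -(kinv κ * S.h a x) by
      linear_combination (-2 * (kinv κ * S.h a x)) * kinv_mul hκ, neg_sm]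
  abel

end

variable [Fintype F] {M : Subgroup (Isom Q)}

/-- An element moving some singular line to a line normalises the extension. -/
def LineRule (M : Subgroup (Isom Q)) : Prop :=
  ∀ g ∈ M, ∀ u, u ≠ 0 → S.q u = 0 → ap g (S.J u) ∈ S.line (ap g u) → S.InN g

theorem lineRule_of_not_le (hn : 10 ≤ Fintype.card ι) (hH : S.Contains M) (hMΩ : M ≤ Cfsg.Omega F ⇑Q)
    (hle : ¬ Cfsg.Omega F ⇑Q ≤ M) : S.LineRule M := by
  intro g hg u hu0 hu hline
  have hnr : ¬ S.LineRoots M u := fun h => hle (S.omega_le_of_lineRoots hn hH hu0 hu h)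
  obtain ⟨l, hl⟩ := hline
  have hgu0 : ap g u ≠ 0 := fun e => hu0 (ap_injective g (by rw [e, map_zero]))
  have hl0 : l.im ≠ 0 := fun e => by
    have h1 : S.J u = l.re • u := ap_injective g (by rw [hl, map_smul, sm_apply, e, zero_smul, add_zero])
    have h2 : S.sm (⟨-l.re, 1⟩ : 𝕂) u = 0 := by rw [sm_apply]; dsimp only; rw [h1]; module
    rcases S.sm_eq_zero h2 with h | h
    · have := congrArg QuadraticAlgebra.im h
      simp at this
    · exact hu0 h
  have hgq : S.q (ap g u) = 0 := by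
    have hQ : Q (ap g u) = 0 := by rw [quad_ap]; exact S.Q_of_q hu
    have hJ : 𝔅 (ap g u) (S.J (ap g u)) = 0 := by
      have h := polar_ap g u (S.J u)
      rw [hl, S.polar_J hu, sm_apply, QuadraticMap.polar_add_right, QuadraticMap.polar_smul_right,
        QuadraticMap.polar_smul_right, polar_self', hQ] at h
      simpa [hl0] using h
    ext <;> simp [SStr.q, hQ, hJ]
  obtain ⟨f, hfΩ, hf, k, hk0, hfu⟩ := S.exists_move hn hgu0 hgq hu0 hu
  have hfM := hH f hfΩ (Or.inl hf)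
  have hN := S.inN_of_line hH hMΩ hn hu0 hu hnr (mul_mem hfM hg)
    (by rw [ap_mul, hfu]; exact S.sm_mem_line _ _)
    (by rw [ap_mul, hl, hf.sm S, hfu, sm_sm]; exact S.sm_mem_line _ _)
  have := InN.mul S (InN.inv S (Or.inl hf : S.InN f)) hN
  rwa [← mul_assoc, inv_mul_cancel, one_mul] at this

section
variable {u v : ι → F} (huu : S.q u = 0) (hvv : S.q v = 0) (huv : S.h u v = 1)
include huu hvv huv

/-- The involution of a hyperbolic pair. -/
theorem exists_pairInvol : ∃ z ∈ Cfsg.Omega F ⇑Q, S.Lin z ∧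
    ∀ x, ap z x = x - S.sm (2 * S.h v x) u - S.sm (2 * S.h u x) v := by
  obtain ⟨i, hi⟩ := SStr.exists_neg_one_sq (δ := δ)
  have hi0 : i ≠ 0 := fun e => by rw [e, mul_zero] at hi; exact one_ne_zero (neg_eq_zero.1 hi.symm)
  refine ⟨_, S.tor_sq_mem_omega huu hvv huv i hi0, S.lin_tor huu hvv huv _ _, fun x => ?_⟩
  rw [S.ap_tor huu hvv huv, torMap_apply, hi, inv_neg, inv_one,
    show ((-1 : 𝕂) - 1) = -2 by ring, neg_mul, neg_mul, neg_sm, neg_sm]
  abel

theorem finrank_pair : finrank F ↥(S.line u ⊔ S.line v) = 4 := by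
  have hu0 : u ≠ 0 := fun e => by rw [e, h_zero_left] at huv; exact zero_ne_one huv
  have hv0 : v ≠ 0 := fun e => by rw [e, h_zero_right] at huv; exact zero_ne_one huv
  have h := Submodule.finrank_sup_add_finrank_inf_eq (S.line u) (S.line v)
  have hbot : S.line u ⊓ S.line v = ⊥ := le_bot_iff.1 fun x hx => by
    obtain ⟨⟨k, hk⟩, l, hl⟩ := hx
    have := congrArg (S.h u) (hk.symm.trans hl)
    rw [h_sm_right, h_sm_right, h_self, huu, huv, mul_zero, mul_zero, mul_one] at this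
    rw [hl, ← this, sm_zero_left]
    exact Submodule.zero_mem _
  rw [hbot, finrank_bot, S.finrank_line hu0, S.finrank_line hv0] at h
  omega

/-- A linear conjugate of the involution of a hyperbolic pair comes from the normaliser. -/
theorem inN_of_lin_conj (hn : 10 ≤ Fintype.card ι) (hH : S.Contains M) (hB : S.LineRule M) {z : Isom Q}
    (hz : ∀ x, ap z x = x - S.sm (2 * S.h v x) u - S.sm (2 * S.h u x) v) {g : Isom Q} (hg : g ∈ M)
    (hy : S.Lin (g * z * g⁻¹)) : S.InN g := by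
  have hu0 : u ≠ 0 := fun e => by rw [e, h_zero_left] at huv; exact zero_ne_one huv
  obtain ⟨W, hW⟩ : ∃ W, W = (S.perp u ⊓ S.perp v).map (ap g) := ⟨_, rfl⟩
  have hWJ : S.Stable W := by
    rw [hW]
    rintro _ ⟨x, hx, rfl⟩
    refine ⟨ap g⁻¹ (S.J (ap g x)), ?_, ap_ap_inv g _⟩
    have h := hy (ap g x)
    simp only [ap_mul, ap_inv_ap] at h
    have hzx : ap z x = x := by
      rw [hz, S.mem_perp.1 hx.1, S.mem_perp.1 hx.2, mul_zero, sm_zero_left, sm_zero_left, sub_zero, sub_zero]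
    rw [hzx] at h
    replace h := congrArg (ap g⁻¹) h
    rw [ap_inv_ap, hz, sub_sub, sub_eq_self] at h
    have h1 := congrArg (S.h u) h
    have h2 := congrArg (S.h v) h
    rw [h_add_right, h_sm_right, h_sm_right, h_self, huu, huv, h_zero_right] at h1
    rw [h_add_right, h_sm_right, h_sm_right, h_self, hvv, S.h_comm v u, huv, h_zero_right] at h2
    exact ⟨(mul_eq_zero.1 (by linear_combination h1)).resolve_left S.two_K,
      (mul_eq_zero.1 (by linear_combination h2)).resolve_left S.two_K⟩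
  have hWl : ∀ x ∈ W, ∀ y ∈ S.line u, S.h x (ap g y) = 0 := by
    have key : ∀ x ∈ W, ∀ y ∈ S.line u, 𝔅 x (ap g y) = 0 := by
      rw [hW]
      rintro _ ⟨x, hx, rfl⟩ _ ⟨k, rfl⟩
      rw [polar_ap, ← S.re_h, h_sm_right, S.h_comm x u, S.mem_perp.1 hx.1, mul_zero, QuadraticAlgebra.re_zero]
    exact fun x hx y hy => S.h_eq_zero.2 ⟨key x hx y hy, key _ (hWJ x hx) y hy⟩
  have hWd : Fintype.card ι - 4 ≤ finrank F W := by
    rw [hW, ← (Submodule.equivMapOfInjective _ (ap_injective g) _).finrank_eq]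
    exact S.finrank_perp_perp u v
  obtain ⟨b, hbW, hb0, hb⟩ := S.exists_ksing hWJ (by omega)
  obtain ⟨w, ⟨hwW, hbw⟩, hw⟩ : ∃ w ∈ W ⊓ S.perp b, S.q w ≠ 0 := by
    by_contra! hall
    obtain ⟨U, hU⟩ : ∃ U, U = (W ⊓ S.perp b) ⊔ (S.line u).map (ap g) := ⟨_, rfl⟩
    have hUq : ∀ x ∈ U, Q x = 0 := by
      intro x hx
      rw [hU] at hx
      obtain ⟨p, hp, o, ⟨l, hl, rfl⟩, rfl⟩ := Submodule.mem_sup.1 hx
      have hlQ : Q (ap g l) = 0 := by
        rw [quad_ap, ← S.re_q]
        obtain ⟨k, rfl⟩ := hl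
        rw [q_sm, huu, mul_zero, QuadraticAlgebra.re_zero]
      rw [QuadraticMap.map_add (⇑Q), hlQ, S.polar_eq_zero_of_h (hWl p hp.1 l hl), ← S.re_q, hall p hp,
        QuadraticAlgebra.re_zero, add_zero, add_zero]
    have h1 := two_finrank_le S.nondeg hUq
    have h2 := Submodule.finrank_sup_add_finrank_inf_eq (W ⊓ S.perp b) ((S.line u).map (ap g))
    have h3 : (W ⊓ S.perp b) ⊓ (S.line u).map (ap g) = ⊥ := le_bot_iff.1 fun x hx => by
      obtain ⟨⟨hxW, -⟩, l, hl, rfl⟩ := hx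
      rw [hW] at hxW
      obtain ⟨y, hy', hyl⟩ := hxW
      rw [ap_injective g hyl] at hy'
      obtain ⟨k, rfl⟩ := hl
      have := S.mem_perp.1 hy'.2
      rw [h_sm_right, S.h_comm v u, huv, mul_one] at this
      rw [this, sm_zero_left, map_zero]
      exact Submodule.zero_mem _
    have h4 := S.finrank_inf_perp_le W b
    have h5 : finrank F ↥((S.line u).map (ap g)) = 2 := by
      rw [← (Submodule.equivMapOfInjective _ (ap_injective g) _).finrank_eq, S.finrank_line hu0]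
    rw [h3, finrank_bot, ← hU, h5] at h2
    omega
  have hbw' : S.h b w = 0 := hbw
  obtain ⟨h, hh⟩ : ∃ h, h = S.eK b w hb hbw' := ⟨_, rfl⟩
  have hhM : h ∈ M := by rw [hh]; exact hH _ (S.eK_mem_omega hb hbw') (Or.inl (S.lin_eK hb hbw'))
  have hfix : ∀ y ∈ S.line u, ap (g⁻¹ * h * g) y = y := fun y hy => by
    rw [ap_mul, ap_mul, hh, S.ap_eK, hWl b hbW y hy, hWl w hwW y hy, mul_zero, add_zero, sm_zero_left, sm_zero_left,
      add_zero, sub_zero, ap_inv_ap]
  have hlin : S.Lin (g⁻¹ * h * g) := by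
    have hN := hB _ (mul_mem (mul_mem (inv_mem hg) hhM) hg) u hu0 huu
      (by rw [hfix u (S.self_mem_line u), hfix _ (S.J_mem_line u)]; exact S.J_mem_line u)
    refine hN.resolve_right fun hA => ?_
    have h1 := hA u
    rw [hfix u (S.self_mem_line u), hfix _ (S.J_mem_line u)] at h1
    have h2 : (2 : F) • S.J u = 0 := by rw [two_smul]; nth_rewrite 1 [h1]; exact neg_add_cancel _
    have h3 := (smul_eq_zero.1 h2).resolve_left S.two
    have h4 := S.sq u
    rw [h3, map_zero] at h4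
    exact hu0 ((smul_eq_zero.1 h4.symm).resolve_left delta_ne)
  obtain ⟨L, hL⟩ : ∃ L : (ι → F) →ₗ[F] (ι → F), L = ap g ∘ₗ S.J ∘ₗ ap g⁻¹ := ⟨_, rfl⟩
  have hLa : ∀ x, L x = ap g (S.J (ap g⁻¹ x)) := fun x => by rw [hL]; rfl
  have hcomm : ∀ x, ap h (L x) = L (ap h x) := fun x => by
    have h1 := congrArg (ap g) (hlin (ap g⁻¹ x))
    simp only [ap_mul, ap_ap_inv] at h1
    rw [hLa, hLa]
    exact h1
  have hw2 : (2 : 𝕂) * S.q w ≠ 0 := mul_ne_zero S.two_K hw
  have e1 := hcomm b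
  rw [hh, S.ap_eK_self hb hbw', S.ap_eK] at e1
  have hwb : S.h w b = 0 := by rw [h_comm, hbw']
  have hb2 : S.h b b = 0 := by rw [h_self, hb, mul_zero]
  have e2 : S.h b (L b) * (2 * S.q w) = 0 := by
    have := congrArg (S.h w) e1
    rw [h_sub_right, h_add_right, h_sm_right, h_sm_right, h_self, hwb, mul_zero, sub_zero] at this
    linear_combination this
  have hbL : S.h b (L b) = 0 := (mul_eq_zero.1 e2).resolve_right hw2
  rw [hbL, mul_zero, add_zero, sm_zero_left, add_zero, sub_eq_self] at e1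
  have hwL : S.h w (L b) = 0 := (S.sm_eq_zero e1).resolve_right hb0
  obtain ⟨t, ht⟩ : ∃ t, t = S.sm (2 * S.q w)⁻¹ w := ⟨_, rfl⟩
  have e3 := hcomm t
  have hht : ap h t = t - b := by
    rw [hh, S.ap_eK, ht, h_sm_right, h_sm_right, hbw', mul_zero, mul_zero, add_zero, sm_zero_left, add_zero,
      h_self, inv_mul_cancel₀ hw2, sm_one]
  rw [hht, hh, S.ap_eK, map_sub] at e3
  have e4 : L b = S.sm (S.h w (L t) + S.q w * S.h b (L t)) b - S.sm (S.h b (L t)) w := by
    linear_combination (norm := abel) e3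
  have hA : S.h b (L t) = 0 := by
    have := congrArg (S.h w) e4
    rw [hwL, h_sub_right, h_sm_right, h_sm_right, hwb, h_self, mul_zero, zero_sub, eq_comm, neg_eq_zero] at this
    exact (mul_eq_zero.1 this).resolve_right hw2
  rw [hA, mul_zero, add_zero, sm_zero_left, sub_zero] at e4
  obtain ⟨C, hC⟩ : ∃ C, L b = S.sm C b := ⟨_, e4⟩
  rw [hLa] at hC
  obtain ⟨y, hy'⟩ : ∃ y, y = ap g⁻¹ b := ⟨_, rfl⟩
  rw [← hy'] at hC
  have hCJ : S.J y = C.re • y + C.im • ap g⁻¹ (S.J b) := by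
    have := congrArg (ap g⁻¹) hC
    rwa [ap_inv_ap, sm_apply, map_add, map_smul, map_smul, ← hy'] at this
  have hC0 : C.im ≠ 0 := fun e => by
    rw [e, zero_smul, add_zero] at hCJ
    have h2 : S.sm (⟨-C.re, 1⟩ : 𝕂) y = 0 := by rw [sm_apply]; dsimp only; rw [hCJ]; module
    rcases S.sm_eq_zero h2 with h | h
    · have := congrArg QuadraticAlgebra.im h
      simp at this
    · exact hb0 (by rw [← ap_ap_inv g b, ← hy', h, map_zero])
  have hN := hB g⁻¹ (inv_mem hg) b hb0 hb ⟨(⟨-C.re / C.im, C.im⁻¹⟩ : 𝕂), by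
    rw [← hy', sm_apply]
    dsimp only
    rw [hCJ]
    match_scalars <;> field_simp <;> ring⟩
  have := InN.inv S hN
  rwa [inv_inv] at this

end

/-- A conjugate of a reflection in an anisotropic line lies outside the normaliser. -/
theorem exists_bad (hn : 10 ≤ Fintype.card ι) (hH : S.Contains M) (hB : S.LineRule M) {g : Isom Q} (hg : g ∈ M)
    (hgN : ¬ S.InN g) :
    ∃ w ∈ M, ∃ s₁ s₂ : ι → F, w * w = 1 ∧ s₂ ∉ S.line s₁ ∧ s₁ ≠ 0 ∧
      (∀ x ∈ Submodule.span F {s₁, s₂}, ap w x = -x) ∧ (∀ x, ap w x - x ∈ Submodule.span F {s₁, s₂}) ∧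
      ∀ x ∈ Submodule.span F {s₁, s₂}, S.J x ∈ Submodule.span F {s₁, s₂} → x = 0 := by
  obtain ⟨u, -, hu0, hu⟩ := S.exists_ksing (T := ⊤) (fun x _ => Submodule.mem_top) (by
    rw [finrank_top, Module.finrank_pi]; omega)
  obtain ⟨v, hv, huv⟩ := S.exists_partner hu0 hu
  obtain ⟨x, y, hxy⟩ := exists_diag_binary S.two one_ne_zero (neg_ne_zero.2 (delta_ne (δ := δ))) δ
  obtain ⟨κ, hκd⟩ : ∃ κ : 𝕂, κ = ⟨x, y⟩ := ⟨_, rfl⟩
  have hκ : nm κ = δ := by rw [hκd]; simp only [nm]; linear_combination hxy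
  have hκ' : nm (-κ) = δ := (show nm (-κ) = nm κ by simp only [nm, QuadraticAlgebra.re_neg, QuadraticAlgebra.im_neg]; ring).trans hκ
  obtain ⟨a, hadef⟩ : ∃ a, a = u + S.sm κ v := ⟨_, rfl⟩
  obtain ⟨b, hbdef⟩ : ∃ b, b = u - S.sm κ v := ⟨_, rfl⟩
  have ha : S.q a = κ := by
    rw [hadef, q_add, q_sm, hu, hv, h_sm_right, huv]; ring
  have hb : S.q b = -κ := by
    rw [hbdef, q_sub, q_sm, hu, hv, h_sm_right, huv]; ring
  obtain ⟨z, hzΩ, hzl, hz⟩ := S.exists_pairInvol hu hv huv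
  have hzab : z = (S.rot ha hκ * S.rot ha hκ) * (S.rot hb hκ' * S.rot hb hκ') := ext_ap fun x => by
    have hi := kinv_mul hκ
    rw [ap_mul (S.rot ha hκ * S.rot ha hκ), S.ap_rot_sq hb hκ', S.ap_rot_sq ha hκ, hz, kinv_neg]
    rw [h_sub_right, h_sm_right, show S.h a b = 0 by
      rw [hadef, hbdef, h_sub_right, h_add_left, h_add_left, h_sm_left, h_sm_left, h_sm_right, h_sm_right, h_self,
        hu, h_self, hv, S.h_comm v u, huv]; ring, mul_zero, sub_zero, hadef, hbdef, h_add_left, h_sub_left, h_sm_left,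
      map_add, map_sub, sm_sm, sm_sm]
    simp only [neg_mul, neg_sm, sub_eq_add_neg, mul_add, mul_neg, add_sm, add_mul, neg_add_rev, neg_neg]
    rw [show kinv κ * S.h u x * κ = S.h u x by linear_combination (S.h u x) * hi,
      show kinv κ * (κ * S.h v x) * κ = κ * S.h v x by linear_combination (κ * S.h v x) * hi,
      show kinv κ * (κ * S.h v x) = S.h v x by linear_combination (S.h v x) * hi, two_mul, two_mul, add_sm, add_sm]
    abel
  have hconj : ∀ c : ι → F, ∀ κ : 𝕂, ∀ hc : S.q c = κ, ∀ hκ : nm κ = δ,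
      (S.rot hc hκ * S.rot hc hκ) ∈ M ∧
      (S.Lin (g * (S.rot hc hκ * S.rot hc hκ) * g⁻¹) ∨
      ∃ w ∈ M, ∃ s₁ s₂ : ι → F, w * w = 1 ∧ s₂ ∉ S.line s₁ ∧ s₁ ≠ 0 ∧
        (∀ x ∈ Submodule.span F {s₁, s₂}, ap w x = -x) ∧ (∀ x, ap w x - x ∈ Submodule.span F {s₁, s₂}) ∧
        ∀ x ∈ Submodule.span F {s₁, s₂}, S.J x ∈ Submodule.span F {s₁, s₂} → x = 0) := by
    intro c κ hc hκ
    have hR : S.rot hc hκ * S.rot hc hκ ∈ M :=
      hH _ (sq_mem_omega S.nondeg S.two _) (Or.inl (S.lin_rot_sq hc hκ))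
    refine ⟨hR, ?_⟩
    have hκ0 : κ ≠ 0 := fun e => by
      have := kinv_mul hκ
      rw [e, mul_zero] at this
      exact zero_ne_one this
    have hc0 : c ≠ 0 := fun e => hκ0 (by rw [← hc, e, q_zero])
    obtain ⟨w, hw⟩ : ∃ w, w = g * (S.rot hc hκ * S.rot hc hκ) * g⁻¹ := ⟨_, rfl⟩
    obtain ⟨T, hT⟩ : ∃ T, T = (S.line c).map (ap g) := ⟨_, rfl⟩
    have hwT : ∀ x ∈ T, ap w x = -x := by
      rw [hT]
      rintro _ ⟨y, ⟨k, rfl⟩, rfl⟩
      rw [hw, ap_mul, ap_mul, ap_inv_ap, S.ap_rot_sq hc hκ, h_sm_right, h_self, hc,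
        show kinv κ * (k * (2 * κ)) = k + k by linear_combination (2 * k) * kinv_mul hκ, add_sm, map_sub, map_add]
      abel
    have hwd : ∀ x, ap w x - x ∈ T := fun x => by
      rw [hT]
      refine ⟨ap (S.rot hc hκ * S.rot hc hκ) (ap g⁻¹ x) - ap g⁻¹ x, ?_, ?_⟩
      · rw [S.ap_rot_sq hc hκ, sub_sub_cancel_left]
        exact (S.line c).neg_mem (S.sm_mem_line _ _)
      · simp only [map_sub, ap_ap_inv, hw, ap_mul]
    by_cases hTJ : ∃ s ∈ T, s ≠ 0 ∧ S.J s ∈ T
    · left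
      obtain ⟨s, hs, hs0, hJs⟩ := hTJ
      have hle : S.line s ≤ T := by
        rintro _ ⟨k, rfl⟩
        rw [sm_apply]
        exact T.add_mem (T.smul_mem _ hs) (T.smul_mem _ hJs)
      have heq : S.line s = T := Submodule.eq_of_le_of_finrank_eq hle (by
        rw [hT, ← (Submodule.equivMapOfInjective _ (ap_injective g) _).finrank_eq, S.finrank_line hs0,
          S.finrank_line hc0])
      have hTst : S.Stable T := heq ▸ S.stable_line s
      have hfix : ∀ x, (∀ y ∈ T, 𝔅 y x = 0) → ap w x = x := fun x hx => by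
        have hp : S.h c (ap g⁻¹ x) = 0 := by
          rw [← mem_perp, ← S.qperp_line]
          refine mem_qperp.2 fun y hy => ?_
          rw [← polar_ap g, ap_ap_inv]
          exact hx _ (by rw [hT]; exact Submodule.mem_map_of_mem hy)
        rw [hw, ap_mul, ap_mul, S.ap_rot_sq hc hκ, hp, mul_zero, sm_zero_left, sub_zero, ap_ap_inv]
      rw [← hw]
      intro x
      obtain ⟨p, hp⟩ : ∃ p, p = (2 : F)⁻¹ • (x - ap w x) := ⟨_, rfl⟩
      have hpT : p ∈ T := by
        rw [hp, ← neg_sub]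
        exact T.smul_mem _ (T.neg_mem (hwd x))
      have hwo : ap w (x - p) = x - p := by
        have h1 := hwT p hpT
        rw [hp, map_smul, map_sub] at h1
        rw [map_sub, hp, map_smul, map_sub, h1]
        match_scalars <;> field_simp [S.two] <;> ring
      have hperp : ∀ y ∈ T, 𝔅 y (x - p) = 0 := fun y hy => by
        have h1 := polar_ap w y (x - p)
        rw [hwT y hy, hwo, QuadraticMap.polar_neg_left] at h1
        have h2 : (2 : F) * 𝔅 y (x - p) = 0 := by linear_combination -h1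
        exact (mul_eq_zero.1 h2).resolve_left S.two
      have hJo := hfix (S.J (x - p)) fun y hy => by rw [← S.adj]; exact hperp _ (hTst y hy)
      rw [show x = (x - p) + p from (sub_add_cancel x p).symm, map_add, map_add, hJo, hwT _ (hTst p hpT), map_add,
        hwo, hwT p hpT, map_add, map_neg]
    · right
      push Not at hTJ
      refine ⟨w, by rw [hw]; exact mul_mem (mul_mem hg hR) (inv_mem hg), ap g c, ap g (S.J c), ?_, ?_⟩
      · rw [hw, conj_mul, S.rot_sq_sq hc hκ, mul_one, mul_inv_cancel]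
      have hspan : Submodule.span F {ap g c, ap g (S.J c)} = T := by
        rw [hT, line_eq_span, Submodule.map_span, Set.image_pair]
      have h1T : ap g c ∈ T := by rw [hT]; exact Submodule.mem_map_of_mem (S.self_mem_line c)
      have h2T : ap g (S.J c) ∈ T := by rw [hT]; exact Submodule.mem_map_of_mem (S.J_mem_line c)
      have hg0 : ap g c ≠ 0 := fun e => hc0 (ap_injective g (by rw [e, map_zero]))
      rw [hspan]
      refine ⟨fun ⟨k, hk⟩ => ?_, hg0, hwT, hwd, fun x hx hJ => by_contra fun h0 => hTJ x hx h0 hJ⟩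
      by_cases him : k.im = 0
      · rw [sm_apply, him, zero_smul, add_zero, ← map_smul] at hk
        have h2 : S.sm (⟨-k.re, 1⟩ : 𝕂) c = 0 := by
          rw [sm_apply]; dsimp only; rw [ap_injective g hk]; module
        rcases S.sm_eq_zero h2 with h | h
        · have := congrArg QuadraticAlgebra.im h
          simp at this
        · exact hc0 h
      · refine hTJ _ h1T hg0 ?_
        have : S.J (ap g c) = k.im⁻¹ • (ap g (S.J c) - k.re • ap g c) := by
          rw [hk, sm_apply, add_sub_cancel_left, inv_smul_smul₀ him]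
        rw [this]
        exact T.smul_mem _ (T.sub_mem h2T (T.smul_mem _ h1T))
  obtain ⟨-, h1⟩ := hconj a κ ha hκ
  obtain ⟨-, h2⟩ := hconj b (-κ) hb hκ'
  rcases h1 with h1 | h1
  swap; · exact h1
  rcases h2 with h2 | h2
  swap; · exact h2
  refine absurd (S.inN_of_lin_conj hu hv huv hn hH hB hz hg ?_) hgN
  rw [hzab, ← conj_mul]
  exact h1.mul S h2

end SStr

end CfsgLib.OrthExtTwo
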