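import Cfsg.Agent.OrthExtTwo.Basic

/-!
# Elements keeping a singular line of the extension

`inN_of_line`: in an overgroup of the normaliser of the extension an element keeping the line of a singular
vector normalises the extension, unless all the short root elements of that line are in the overgroup.
-/

set_option autoImplicit false
set_option linter.unusedSectionVars false

namespace CfsgLib.OrthExtTwo

open Matrix Module CfsgLib.Spinor CfsgLib.Forms CfsgLib.Forms4 CfsgLib.OrthMax CfsgLib.OrthMono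

variable {F : Type*} [Field F] {ι : Type} [Fintype ι] [DecidableEq ι] {Q : QuadraticForm F (ι → F)}
variable {δ : F} [hδ : Fact (∀ r : F, r ^ 2 ≠ δ + 0 * r)]

set_option quotPrecheck false in
local notation "𝔅" => QuadraticMap.polar (⇑Q)

local notation "𝕂" => QuadraticAlgebra F δ 0

theorem ap_eichIso {u w : ι → F} (hu : Q u = 0) (huw : 𝔅 u w = 0) (x : ι → F) :
    ap (eichIso Q u w hu huw) x = x + (𝔅 u x • w - 𝔅 w x • u - (Q w * 𝔅 u x) • u) := by
  rw [ap_def, mat_eichIso, eich_mulVec]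

namespace SStr

variable (S : SStr Q δ)

/-- The elements of `Ω` normalising the extension lie in `M`. -/
def Contains [Fintype F] (M : Subgroup (Isom Q)) : Prop := ∀ g ∈ Cfsg.Omega F ⇑Q, S.InN g → g ∈ M

/-- The short root elements of a singular line of the extension lie in `M`. -/
def LineRoots (M : Subgroup (Isom Q)) (u : ι → F) : Prop := ∀ c : F, RootMem M u (c • S.J u)

/-- Fixing the line of `u` and acting trivially on its orthogonal modulo the line. -/
def InU (u : ι → F) (g : Isom Q) : Prop :=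
  (∀ x ∈ S.line u, ap g x = x) ∧ ∀ x ∈ S.perp u, ap g x - x ∈ S.line u

section
variable {u : ι → F} (hu : S.q u = 0)
include hu

theorem Q_of_q : Q u = 0 := congrArg QuadraticAlgebra.re hu

theorem Q_J : Q (S.J u) = 0 := by
  rw [← S.re_q, J_eq, q_sm, hu, mul_zero, QuadraticAlgebra.re_zero]

theorem polar_J : 𝔅 u (S.J u) = 0 := by
  have h : S.h u (S.J u) = 0 := by rw [J_eq, h_sm_right, h_self, hu, mul_zero, mul_zero]
  exact S.polar_eq_zero_of_h h

theorem polar_smul_J (c : F) : 𝔅 u (c • S.J u) = 0 := by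
  rw [QuadraticMap.polar_smul_right, S.polar_J hu, smul_zero]

theorem ap_eich_J (c : F) (x : ι → F) :
    ap (eichIso Q u (c • S.J u) (S.Q_of_q hu) (S.polar_smul_J hu c)) x =
      x + c • (𝔅 u x • S.J u - 𝔅 (S.J u) x • u) := by
  rw [ap_eichIso, QuadraticMap.map_smul, S.Q_J hu, smul_zero, QuadraticMap.polar_smul_left, smul_eq_mul]
  module

theorem line_le_perp : S.line u ≤ S.perp u := by
  rintro _ ⟨k, rfl⟩
  rw [mem_perp, h_sm_right, h_self, hu, mul_zero, mul_zero]

theorem ap_perp_of_fix_line {g : Isom Q} (hg : ∀ x ∈ S.line u, ap g x = x) {x : ι → F} (hx : x ∈ S.perp u) :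
    ap g x ∈ S.perp u := by
  rw [mem_perp, h_eq_zero]
  obtain ⟨h1, h2⟩ := S.h_eq_zero.1 (S.mem_perp.1 hx)
  refine ⟨?_, ?_⟩
  · conv_lhs => rw [← hg u (S.self_mem_line u)]
    rw [polar_ap, h1]
  · conv_lhs => rw [← hg _ (S.J_mem_line u)]
    rw [polar_ap, h2]

/-- An isometry fixing the orthogonal of a singular line is a short root element. -/
theorem eq_eich_of_fix_perp (hu0 : u ≠ 0) {g : Isom Q} (hfix : ∀ x ∈ S.perp u, ap g x = x) :
    ∃ c : F, g = eichIso Q u (c • S.J u) (S.Q_of_q hu) (S.polar_smul_J hu c) := by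
  have hd := delta_ne (δ := δ)
  obtain ⟨v, hv, huv⟩ := S.exists_partner hu0 hu
  have hmove : ∀ y, ∃ k : 𝕂, ap g y = y + S.sm k u := by
    intro y
    have : ap g y - y ∈ qperp Q (S.perp u) := mem_qperp.2 fun p hp => by
      rw [QuadraticMap.polar_sub_right]
      conv_lhs => arg 1; rw [← hfix p hp]
      rw [polar_ap, sub_self]
    rw [qperp_perp] at this
    obtain ⟨k, hk⟩ := this
    exact ⟨k, by rw [← hk]; abel⟩
  obtain ⟨e, he⟩ := hmove v
  obtain ⟨f, hf⟩ := hmove (S.J v)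
  have h1 : 𝔅 u v = 1 := by rw [← S.re_h, huv, QuadraticAlgebra.re_one]
  have h3 : 𝔅 (S.J u) v = 0 := by
    have := congrArg QuadraticAlgebra.im huv
    simp only [h, QuadraticAlgebra.im_one, div_eq_zero_iff, hd, or_false] at this
    rwa [S.adj]
  have h1' : 𝔅 v u = 1 := by rw [QuadraticMap.polar_comm, h1]
  have h3' : 𝔅 v (S.J u) = 0 := by rw [QuadraticMap.polar_comm, h3]
  have h4 : 𝔅 (S.J v) u = 0 := by rw [S.adj, h3']
  have h5 : 𝔅 (S.J v) (S.J u) = δ := by
    rw [S.adj, S.sq, QuadraticMap.polar_smul_right, h1', smul_eq_mul, mul_one]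
  have hQk : ∀ k : 𝕂, Q (S.sm k u) = 0 := fun k => by
    rw [← S.re_q, q_sm, hu, mul_zero, QuadraticAlgebra.re_zero]
  have he0 : e.re = 0 := by
    have := quad_ap g v
    rw [he, QuadraticMap.map_add (⇑Q), hQk, sm_apply, QuadraticMap.polar_add_right, QuadraticMap.polar_smul_right,
      QuadraticMap.polar_smul_right, h1', h3'] at this
    simpa using this
  have hf0 : f.im = 0 := by
    have := quad_ap g (S.J v)
    rw [hf, QuadraticMap.map_add (⇑Q), hQk, sm_apply, QuadraticMap.polar_add_right, QuadraticMap.polar_smul_right,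
      QuadraticMap.polar_smul_right, h4, h5] at this
    simpa [hd] using this
  have hfe : f.re + δ * e.im = 0 := by
    have := polar_ap g v (S.J v)
    rw [he, hf] at this
    simp only [QuadraticMap.polar_add_left, QuadraticMap.polar_add_right, sm_apply,
      QuadraticMap.polar_smul_left, QuadraticMap.polar_smul_right, he0, hf0, smul_eq_mul,
      QuadraticMap.polar_comm (⇑Q) u (S.J v), QuadraticMap.polar_comm (⇑Q) (S.J u) (S.J v),
      h1', h3', h4, h5, polar_self', S.Q_of_q hu, S.Q_J hu, S.polar_J hu,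
      QuadraticMap.polar_comm (⇑Q) (S.J u) u] at this
    linear_combination this
  refine ⟨e.im, ext_ap fun x => ?_⟩
  rw [S.ap_eich_J hu]
  obtain ⟨k, hk⟩ : ∃ k, k = S.h u x := ⟨_, rfl⟩
  have hp : x - S.sm k v ∈ S.perp u := by rw [mem_perp, h_sub_right, h_sm_right, huv, mul_one, hk, sub_self]
  have hx : x = (x - S.sm k v) + S.sm k v := (sub_add_cancel _ _).symm
  have hre : 𝔅 u x = k.re := by rw [hk]; rfl
  have him : 𝔅 (S.J u) x = δ * k.im := by
    rw [hk, S.adj]
    show _ = δ * (𝔅 u (S.J x) / δ)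
    field_simp
  rw [hre, him]
  conv_lhs => rw [hx, map_add, hfix _ hp, sm_apply, map_add, map_smul, map_smul, he, hf]
  simp only [sm_apply, he0, hf0, eq_neg_of_add_eq_zero_left hfe]
  module

end

/-- The norm of the extension. -/
def nm (k : 𝕂) : F := k.re ^ 2 - δ * k.im ^ 2

/-- The short root elements of a line do not depend on its generator. -/
theorem rootMem_scale {u : ι → F} (hu : S.q u = 0) {M : Subgroup (Isom Q)} (k : 𝕂) (c : F) :
    RootMem M (S.sm k u) (c • S.J (S.sm k u)) ↔ RootMem M u ((c * nm k) • S.J u) := by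
  have hku : S.q (S.sm k u) = 0 := by rw [q_sm, hu, mul_zero]
  have e : eich Q (S.sm k u) (c • S.J (S.sm k u)) = eich Q u ((c * nm k) • S.J u) := by
    refine Matrix.ext_iff_mulVec.2 fun x => ?_
    rw [← mat_eichIso _ _ (S.Q_of_q hku) (S.polar_smul_J hku c), ← mat_eichIso _ _ (S.Q_of_q hu) (S.polar_smul_J hu _),
      ← ap_def, ← ap_def, S.ap_eich_J hku, S.ap_eich_J hu]
    simp only [sm_apply, map_add, map_smul, S.sq, nm, QuadraticMap.polar_add_left, QuadraticMap.polar_smul_left,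
      smul_eq_mul]
    module
  simp only [RootMem, e]

/-- The torus of a hyperbolic pair. -/
def torMap (u v : ι → F) (k : 𝕂) : (ι → F) →ₗ[F] (ι → F) where
  toFun x := x + S.sm ((k - 1) * S.h v x) u + S.sm ((k⁻¹ - 1) * S.h u x) v
  map_add' x y := by
    rw [h_add_right, h_add_right, mul_add, mul_add, add_sm, add_sm]
    abel
  map_smul' r x := by
    have e : ∀ z : ι → F, S.h z (r • x) = r • S.h z x := fun z => by rw [h_comm, h_smul_left, h_comm]
    rw [RingHom.id_apply, e, e, mul_smul_comm, mul_smul_comm, smul_sm, smul_sm]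
    module

theorem torMap_apply (u v x : ι → F) (k : 𝕂) :
    S.torMap u v k x = x + S.sm ((k - 1) * S.h v x) u + S.sm ((k⁻¹ - 1) * S.h u x) v := rfl

section
variable {u v : ι → F} (huu : S.q u = 0) (hvv : S.q v = 0) (huv : S.h u v = 1)
include huu hvv huv

theorem torMap_mul (k l : 𝕂) (x : ι → F) : S.torMap u v k (S.torMap u v l x) = S.torMap u v (k * l) x := by
  simp only [torMap_apply, h_add_right, h_sm_right, h_self, huu, hvv, S.h_comm v u, huv, mul_zero, mul_one,
    add_zero, mul_inv]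
  simp only [mul_add, add_sm]
  simp only [sm_sm, mul_add, add_sm, sub_mul, sub_sm, one_mul, mul_sub]
  simp only [mul_assoc]
  abel

theorem torMap_one (x : ι → F) : S.torMap u v 1 x = x := by
  simp [torMap_apply, sm_zero_left]

theorem Q_torMap {k : 𝕂} (hk : k ≠ 0) (x : ι → F) : Q (S.torMap u v k x) = Q x := by
  refine congrArg QuadraticAlgebra.re (?_ : S.q _ = S.q x)
  simp only [torMap_apply, q_add, q_sm, h_add_left, h_sm_left, h_sm_right, huu, hvv, huv,
    S.h_comm x u, S.h_comm x v]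
  field_simp
  ring

/-- The torus element of a hyperbolic pair. -/
noncomputable def tor (k : 𝕂) (hk : k ≠ 0) : Isom Q :=
  mkIso (S.torMap u v k) (S.torMap u v k⁻¹)
    (fun x => by rw [S.torMap_mul huu hvv huv, mul_inv_cancel₀ hk, S.torMap_one huu hvv huv])
    (fun x => by rw [S.torMap_mul huu hvv huv, inv_mul_cancel₀ hk, S.torMap_one huu hvv huv])
    (S.Q_torMap huu hvv huv hk)

theorem ap_tor (k : 𝕂) (hk : k ≠ 0) (x : ι → F) : ap (S.tor huu hvv huv k hk) x = S.torMap u v k x :=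
  ap_mkIso _ _ _ _ _ x

theorem lin_tor (k : 𝕂) (hk : k ≠ 0) : S.Lin (S.tor huu hvv huv k hk) := fun x => by
  simp only [S.ap_tor huu hvv huv, torMap_apply, map_add, J_sm]
  simp only [J_eq S x, J_eq S u, J_eq S v, h_sm_right, sm_sm]
  congr 2 <;> [congr 2; congr 1] <;> ring_nf

theorem tor_self (k : 𝕂) (hk : k ≠ 0) : ap (S.tor huu hvv huv k hk) u = S.sm k u := by
  rw [S.ap_tor huu hvv huv, torMap_apply, h_self, huu, mul_zero, mul_zero, sm_zero_left, add_zero, S.h_comm v u, huv,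
    mul_one, sub_sm, sm_one]
  abel

theorem tor_sq_mem_omega [Fintype F] (k : 𝕂) (hk : k ≠ 0) :
    S.tor huu hvv huv (k * k) (mul_ne_zero hk hk) ∈ Cfsg.Omega F ⇑Q := by
  have e : S.tor huu hvv huv (k * k) (mul_ne_zero hk hk) = S.tor huu hvv huv k hk * S.tor huu hvv huv k hk :=
    ext_ap fun x => by
      rw [ap_mul, S.ap_tor huu hvv huv, S.ap_tor huu hvv huv, S.ap_tor huu hvv huv, S.torMap_mul huu hvv huv]
  rw [e]
  exact sq_mem_omega S.nondeg S.two _

end

variable [Fintype F] {M : Subgroup (Isom Q)}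

/-- One short root element of a line gives all. -/
theorem lineRoots_of_one (hH : S.Contains M) {u : ι → F} (hu0 : u ≠ 0) (hu : S.q u = 0) {c : F} (hc : c ≠ 0)
    (h : RootMem M u (c • S.J u)) : S.LineRoots M u := by
  obtain ⟨v, hv, huv⟩ := S.exists_partner hu0 hu
  have hsq : ∀ s : F, RootMem M u ((c * s ^ 2) • S.J u) := by
    intro s
    by_cases hs : s = 0
    · rw [hs]; simpa using RootMem.zero (M := M) (u := u)
    obtain ⟨a, b, hab⟩ := exists_diag_binary S.two one_ne_zero (neg_ne_zero.2 (delta_ne (δ := δ))) s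
    have hk : (⟨a, b⟩ : 𝕂) ≠ 0 := fun h0 => hs (by
      have h1 := congrArg QuadraticAlgebra.re h0
      have h2 := congrArg QuadraticAlgebra.im h0
      simp at h1 h2
      rw [← hab, h1, h2]; ring)
    set T := S.tor hu hv huv _ (mul_ne_zero hk hk) with hT
    have hTM : T ∈ M := hH _ (S.tor_sq_mem_omega hu hv huv _ hk) (Or.inl (S.lin_tor hu hv huv _ _))
    have := h.conj hTM
    rw [← ap_def, ← ap_def, map_smul, S.lin_tor hu hv huv _ _ u, hT, S.tor_self hu hv huv, S.rootMem_scale hu] at this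
    rwa [show c * s ^ 2 = c * nm ((⟨a, b⟩ : 𝕂) * ⟨a, b⟩) by
      rw [← hab, nm, QuadraticAlgebra.re_mul, QuadraticAlgebra.im_mul]; ring]
  intro e
  obtain ⟨x, y, hxy⟩ := exists_diag_binary S.two one_ne_zero one_ne_zero (e / c)
  have := (hsq x).add (S.Q_of_q hu) (S.polar_smul_J hu _) (S.polar_smul_J hu _) (hsq y)
  rwa [← add_smul, ← mul_add, show x ^ 2 + y ^ 2 = e / c by linear_combination hxy, mul_div_cancel₀ e hc] at this

/-- Unipotent elements at a line without short root elements are linear. -/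
theorem lin_of_inU (hH : S.Contains M) {u : ι → F} (hu0 : u ≠ 0) (hu : S.q u = 0) (hnr : ¬ S.LineRoots M u)
    {g : Isom Q} (hg : g ∈ M) (hU : S.InU u g) : S.Lin g := by
  have hzero : ∀ c : F, eichIso Q u (c • S.J u) (S.Q_of_q hu) (S.polar_smul_J hu c) ∈ M → c = 0 := fun c hc => by
    by_contra h0
    exact hnr (S.lineRoots_of_one hH hu0 hu h0 (RootMem.of_iso _ _ hc))
  have hkey : ∀ w, ∀ hw : S.h u w = 0, ∀ x, ap g (ap (S.eK u w hu hw) x) = ap (S.eK u w hu hw) (ap g x) := by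
    intro w hw
    set Y := S.eK u w hu hw with hY
    have hYM : Y ∈ M := hH _ (S.eK_mem_omega hu hw) (Or.inl (S.lin_eK hu hw))
    have hYfix : ∀ x ∈ S.line u, ap Y x = x := by
      rintro _ ⟨k, rfl⟩
      rw [(S.lin_eK hu hw).sm S, S.ap_eK_self hu hw]
    have hcomm : ∀ z ∈ S.perp u, ap g (ap Y z) = ap Y (ap g z) := by
      intro z hz
      have h1 := S.ap_perp_of_fix_line hu hU.1 hz
      obtain ⟨a, ha⟩ := hU.2 z hz
      have hg' : ap g z = z + S.sm a u := by rw [← ha]; abel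
      rw [hY, S.ap_eK_perp hu hw hz, map_sub, hU.1 _ (S.sm_mem_line _ _), S.ap_eK_perp hu hw h1, hg', h_add_right,
        h_sm_right, S.h_comm w u, hw, mul_zero, add_zero]
    have hfix : ∀ x ∈ S.perp u, ap (g * Y * g⁻¹ * Y⁻¹) x = x := by
      intro x hx
      have hgi : ∀ y ∈ S.line u, ap g⁻¹ y = y := fun y hy => by
        conv_lhs => rw [← hU.1 y hy]
        rw [ap_inv_ap]
      have hYi : ∀ y ∈ S.line u, ap Y⁻¹ y = y := fun y hy => by
        conv_lhs => rw [← hYfix y hy]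
        rw [ap_inv_ap]
      have hz := S.ap_perp_of_fix_line hu hgi (S.ap_perp_of_fix_line hu hYi hx)
      rw [ap_mul, ap_mul, ap_mul, hcomm _ hz, ap_ap_inv, ap_ap_inv]
    obtain ⟨c, hc⟩ := S.eq_eich_of_fix_perp hu hu0 hfix
    have hmem : g * Y * g⁻¹ * Y⁻¹ ∈ M := mul_mem (mul_mem (mul_mem hg hYM) (inv_mem hg)) (inv_mem hYM)
    rw [hc] at hmem
    have hone : g * Y * g⁻¹ * Y⁻¹ = 1 := by
      rw [hc]
      exact ext_ap fun x => by rw [S.ap_eich_J hu, hzero c hmem, zero_smul, add_zero, ap_one]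
    intro x
    rw [← ap_mul, ← ap_mul, ← mul_inv_eq_one.1 (show g * Y * (Y * g)⁻¹ = 1 by
      rw [_root_.mul_inv_rev, ← mul_assoc]; exact hone)]
  obtain ⟨v, hv, huv⟩ := S.exists_partner hu0 hu
  obtain ⟨d, hd⟩ : ∃ d, d = ap g v - v := ⟨_, rfl⟩
  have hgv : ap g v = v + d := by rw [hd]; abel
  have hdu : S.h u d = 0 := by
    rw [hd, h_eq_zero, QuadraticMap.polar_sub_right, QuadraticMap.polar_sub_right]
    refine ⟨?_, ?_⟩
    · conv_lhs => arg 1; arg 2; rw [← hU.1 u (S.self_mem_line u)]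
      rw [polar_ap, sub_self]
    · conv_lhs => arg 1; arg 2; rw [← hU.1 _ (S.J_mem_line u)]
      rw [polar_ap, sub_self]
  -- on the orthogonal of the line `g` is the Eichler element of `d`
  have hperp : ∀ w ∈ S.perp u, ap g w = ap (S.eK u d hu hdu) w := by
    intro w hw'
    have hw : S.h u w = 0 := hw'
    rw [S.ap_eK_perp hu hdu hw]
    have h := hkey w hw v
    rw [S.ap_eK, huv, sm_one, map_sub, map_add, hU.1 _ (S.sm_mem_line _ _), hgv, map_add,
      S.ap_eK_perp hu hw hdu, S.ap_eK, huv, sm_one] at h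
    linear_combination (norm := (rw [S.h_comm d w]; abel)) h
  have hfix : ∀ x ∈ S.perp u, ap ((S.eK u d hu hdu)⁻¹ * g) x = x := fun x hx => by
    rw [ap_mul, hperp x hx, ap_inv_ap]
  obtain ⟨c, hc⟩ := S.eq_eich_of_fix_perp hu hu0 hfix
  have hmem : (S.eK u d hu hdu)⁻¹ * g ∈ M :=
    mul_mem (inv_mem (hH _ (S.eK_mem_omega hu hdu) (Or.inl (S.lin_eK hu hdu)))) hg
  rw [hc] at hmem
  have e : g = S.eK u d hu hdu := by
    refine (inv_mul_eq_one.1 (?_ : (S.eK u d hu hdu)⁻¹ * g = 1)).symm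
    rw [hc]
    exact ext_ap fun x => by rw [S.ap_eich_J hu, hzero c hmem, zero_smul, add_zero, ap_one]
  rw [e]
  exact S.lin_eK hu hdu

/-- Keeping a line without short root elements forces normalising the extension. -/
theorem inN_of_line (hH : S.Contains M) (hMΩ : M ≤ Cfsg.Omega F ⇑Q) (hn : 10 ≤ Fintype.card ι) {u : ι → F}
    (hu0 : u ≠ 0) (hu : S.q u = 0) (hnr : ¬ S.LineRoots M u) {g : Isom Q} (hg : g ∈ M)
    (h1 : ap g u ∈ S.line u) (h2 : ap g (S.J u) ∈ S.line u) : S.InN g := by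
  have hd := delta_ne (δ := δ)
  have hgl : ∀ x ∈ S.line u, ap g x ∈ S.line u := by
    rintro _ ⟨k, rfl⟩
    rw [sm_apply, map_add, map_smul, map_smul]
    exact (S.line u).add_mem ((S.line u).smul_mem _ h1) ((S.line u).smul_mem _ h2)
  have hgil : ∀ x ∈ S.line u, ap g⁻¹ x ∈ S.line u := by
    intro x hx
    have hmap : (S.line u).map (ap g) = S.line u :=
      Submodule.eq_of_le_of_finrank_eq (Submodule.map_le_iff_le_comap.2 hgl)
        (Submodule.equivMapOfInjective _ (ap_injective g) _).symm.finrank_eq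
    rw [← hmap] at hx
    obtain ⟨y, hy, rfl⟩ := hx
    rwa [ap_inv_ap]
  have hperp : ∀ f : Isom Q, (∀ x ∈ S.line u, ap f⁻¹ x ∈ S.line u) → ∀ x ∈ S.perp u, ap f x ∈ S.perp u := by
    intro f hf x hx
    rw [← S.qperp_line] at hx ⊢
    refine mem_qperp.2 fun y hy => ?_
    rw [← polar_ap f⁻¹, ap_inv_ap]
    exact mem_qperp.1 hx _ (hf y hy)
  have hgip := hperp g⁻¹ (by simpa using hgl)
  have hgp := hperp g hgil
  -- the transported structure
  obtain ⟨J', hJ'⟩ : ∃ J' : (ι → F) →ₗ[F] (ι → F), J' = ap g⁻¹ ∘ₗ S.J ∘ₗ ap g := ⟨_, rfl⟩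
  have hJ'a : ∀ x, J' x = ap g⁻¹ (S.J (ap g x)) := fun x => by rw [hJ']; rfl
  have hJ'sq : ∀ x, J' (J' x) = δ • x := fun x => by rw [hJ'a, hJ'a, ap_ap_inv, S.sq, map_smul, ap_inv_ap]
  have hJ'adj : ∀ x y, 𝔅 (J' x) y = 𝔅 x (J' y) := fun x y => by
    rw [hJ'a, hJ'a, ← polar_ap g, ap_ap_inv, S.adj, ← polar_ap g x, ap_ap_inv]
  have hJ'l : ∀ x ∈ S.line u, J' x ∈ S.line u := fun x hx => by
    rw [hJ'a]; exact hgil _ (S.line_stable (hgl x hx))
  have hJ'p : ∀ x ∈ S.perp u, J' x ∈ S.perp u := fun x hx => by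
    rw [hJ'a, J_eq]; exact hgip _ (S.sm_mem_perp (hgp x hx) _)
  have hcomm : ∀ w, ∀ hw : S.h u w = 0, ∀ x, ap (S.eK u w hu hw) (J' x) = J' (ap (S.eK u w hu hw) x) := by
    intro w hw
    have hXU : S.InU u (g * S.eK u w hu hw * g⁻¹) := by
      refine ⟨fun x hx => ?_, fun x hx => ?_⟩
      · rw [ap_mul, ap_mul]
        obtain ⟨k, hk⟩ := hgil x hx
        rw [hk, (S.lin_eK hu hw).sm S, S.ap_eK_self hu hw, ← hk, ap_ap_inv]
      · rw [ap_mul, ap_mul, S.ap_eK_perp hu hw (hgip x hx), map_sub, ap_ap_inv, sub_sub_cancel_left]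
        exact (S.line u).neg_mem (hgl _ (S.sm_mem_line _ _))
    have hlin := S.lin_of_inU hH hu0 hu hnr
      (mul_mem (mul_mem hg (hH _ (S.eK_mem_omega hu hw) (Or.inl (S.lin_eK hu hw)))) (inv_mem hg)) hXU
    intro x
    have := congrArg (ap g⁻¹) (hlin (ap g x))
    rw [ap_mul, ap_mul, ap_mul, ap_mul, ap_inv_ap, ap_inv_ap, ← hJ'a] at this
    rw [this, hJ'a]
  have hlin1 : ∀ w, S.h u w = 0 → ∀ t ∈ S.perp u, J' (S.sm (S.h w t) u) = S.sm (S.h w (J' t)) u := by
    intro w hw t ht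
    have h := hcomm w hw t
    rw [S.ap_eK_perp hu hw ht, S.ap_eK_perp hu hw (hJ'p t ht), map_sub] at h
    exact (sub_right_inj.1 h).symm
  -- a pair in the orthogonal
  obtain ⟨w₁, hw₁p, hw₁l⟩ : ∃ w ∈ S.perp u, w ∉ S.line u := by
    by_contra! hall
    have hle := Submodule.finrank_mono (show S.perp u ≤ S.line u from hall)
    rw [← S.qperp_line, finrank_qperp S.nondeg, S.finrank_line hu0] at hle
    omega
  obtain ⟨t₁, ht₁, ht₁1⟩ : ∃ t ∈ S.perp u, S.h w₁ t = 1 := by
    obtain ⟨t, ht, ht0⟩ : ∃ t ∈ S.perp u, S.h w₁ t ≠ 0 := by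
      by_contra! hall
      refine hw₁l ?_
      rw [← S.qperp_perp]
      exact mem_qperp.2 fun x hx => by rw [QuadraticMap.polar_comm]; exact S.polar_eq_zero_of_h (hall x hx)
    exact ⟨S.sm (S.h w₁ t)⁻¹ t, S.sm_mem_perp ht _, by rw [h_sm_right, inv_mul_cancel₀ ht0]⟩
  obtain ⟨κ, hκ⟩ : ∃ κ, κ = S.h w₁ (J' t₁) := ⟨_, rfl⟩
  have hJ'k : ∀ k : 𝕂, J' (S.sm k u) = S.sm (k * κ) u := fun k => by
    have h := hlin1 (S.sm k w₁) (by rw [h_sm_right, S.mem_perp.1 hw₁p, mul_zero]) t₁ ht₁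
    rwa [h_sm_left, h_sm_left, ht₁1, mul_one, ← hκ] at h
  have hinj : ∀ {k l : 𝕂}, S.sm k u = S.sm l u → k = l := fun {k l} h =>
    sub_eq_zero.1 ((S.sm_eq_zero (k := k - l) (x := u) (by rw [sub_sm, h, sub_self])).resolve_right hu0)
  have hκ2 : κ * κ = ⟨δ, 0⟩ := by
    refine hinj ?_
    rw [sm_coe, ← hJ'sq u]
    conv_rhs => rw [← S.sm_one u, hJ'k, one_mul, hJ'k]
  obtain ⟨s, hs, hκs⟩ : ∃ s : F, (s = 1 ∨ s = -1) ∧ κ = ⟨0, s⟩ := by
    have e1 := congrArg QuadraticAlgebra.re hκ2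
    have e2 := congrArg QuadraticAlgebra.im hκ2
    simp only [QuadraticAlgebra.re_mul, QuadraticAlgebra.im_mul, zero_mul, add_zero] at e1 e2
    have hre : κ.re = 0 := by
      rcases mul_eq_zero.1 (show κ.re * ((2 : F) * κ.im) = 0 by linear_combination e2) with h | h
      · exact h
      · have him : κ.im = 0 := (mul_eq_zero.1 h).resolve_left S.two
        exact absurd (by rw [him] at e1; linear_combination e1) (hδ.out κ.re)
    have him : κ.im * κ.im = 1 := by
      rw [hre] at e1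
      exact mul_left_cancel₀ hd (by linear_combination e1)
    exact ⟨κ.im, mul_self_eq_one_iff.1 him, QuadraticAlgebra.ext hre rfl⟩
  have hκJ : ∀ x, S.sm κ x = s • S.J x := fun x => by simp [hκs, sm_apply]
  have hl : ∀ x ∈ S.line u, J' x = s • S.J x := by
    rintro _ ⟨k, rfl⟩
    rw [hJ'k, mul_comm, ← sm_sm, hκJ]
  have hD1 : ∀ w t, S.h u w = 0 → t ∈ S.perp u → S.h w (J' t) = κ * S.h w t := fun w t hw ht => by
    refine hinj ?_
    rw [← hlin1 w hw t ht, hJ'k, mul_comm]
  have hD2 : ∀ t ∈ S.perp u, J' t - s • S.J t ∈ S.line u := fun t ht => by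
    rw [← S.qperp_perp]
    exact mem_qperp.2 fun w hw => S.polar_eq_zero_of_h (by
      rw [← hκJ, h_sub_right, h_sm_right, hD1 w t hw ht, sub_self])
  obtain ⟨v, hv, huv⟩ := S.exists_partner hu0 hu
  have hD3 : ∀ w ∈ S.perp u, J' w - S.sm (S.h u (J' v)) w =
      S.sm (κ * (S.h w v + S.q w) - S.h w (J' v) - S.q w * S.h u (J' v)) u := by
    intro w hw'
    have hw : S.h u w = 0 := hw'
    have h := hcomm w hw v
    rw [S.ap_eK, S.ap_eK, huv, sm_one, mul_one, map_sub, map_add, hJ'k] at h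
    rw [sub_sm, sub_sm, show κ * (S.h w v + S.q w) = (S.h w v + S.q w) * κ from mul_comm _ _]
    rw [add_sm] at h
    linear_combination (norm := abel) -h
  have hκv : S.h u (J' v) = κ := by
    by_contra hne
    refine hw₁l ?_
    have := (S.line u).sub_mem (hD2 w₁ hw₁p) (show J' w₁ - S.sm (S.h u (J' v)) w₁ ∈ S.line u by
      rw [hD3 w₁ hw₁p]; exact S.sm_mem_line _ _)
    rw [← hκJ, show J' w₁ - S.sm κ w₁ - (J' w₁ - S.sm (S.h u (J' v)) w₁) = S.sm (S.h u (J' v) - κ) w₁ by
      rw [sub_sm]; abel] at this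
    have h2 := S.sm_inv_sm (k := S.h u (J' v) - κ) (sub_ne_zero.2 hne) w₁
    obtain ⟨l, hl⟩ := this
    rw [← h2, hl, sm_sm]
    exact S.sm_mem_line _ _
  obtain ⟨D, hD⟩ : ∃ D : (ι → F) →ₗ[F] (ι → F), D = J' - s • S.J := ⟨_, rfl⟩
  have hDa : ∀ x, D x = J' x - s • S.J x := fun x => by rw [hD]; rfl
  have hDadj : ∀ x y, 𝔅 (D x) y = 𝔅 x (D y) := fun x y => by
    rw [hDa, hDa, QuadraticMap.polar_sub_left, QuadraticMap.polar_sub_right, QuadraticMap.polar_smul_left,
      QuadraticMap.polar_smul_right, hJ'adj, S.adj]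
  have hDvp : S.h u (D v) = 0 := by rw [hDa, ← hκJ, h_sub_right, h_sm_right, hκv, huv, mul_one, sub_self]
  have hDw : ∀ w ∈ S.perp u, D w = -S.sm (S.h w (D v)) u := fun w hw => by
    have h := hD3 w hw
    rw [hκv] at h
    rw [hDa, hDa, ← hκJ, ← hκJ, h, ← neg_sm, h_sub_right, h_sm_right]
    congr 2
    ring
  have hDv : D v ∈ S.line u := by
    rw [← S.qperp_perp]
    refine mem_qperp.2 fun w hw => ?_
    have h := hDadj w v
    rw [hDw w hw, QuadraticMap.polar_neg_left, sm_apply, QuadraticMap.polar_add_left, QuadraticMap.polar_smul_left,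
      QuadraticMap.polar_smul_left, show 𝔅 u v = 1 by rw [← S.re_h, huv, QuadraticAlgebra.re_one],
      show 𝔅 (S.J u) v = 0 from (S.adj u v).trans (by
        have := congrArg QuadraticAlgebra.im huv
        simpa [SStr.h, QuadraticAlgebra.im_one, hd] using this), S.re_h] at h
    have h3 : (2 : F) * 𝔅 w (D v) = 0 := by
      simp only [smul_eq_mul, mul_zero, add_zero, mul_one] at h
      linear_combination -h
    exact (mul_eq_zero.1 h3).resolve_left S.two
  have hD0 : ∀ w ∈ S.perp u, D w = 0 := fun w hw => by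
    obtain ⟨e, he⟩ := hDv
    rw [hDw w hw, he, h_sm_right, S.h_comm w u, S.mem_perp.1 hw, mul_zero, sm_zero_left, neg_zero]
  obtain ⟨e, he⟩ := hDv
  have hDJv : D (S.J v) = -S.J (D v) := by
    have h := hJ'sq v
    have e' : ∀ x, J' x = D x + s • S.J x := fun x => by rw [hDa]; abel
    rw [e' v, map_add, map_smul, e', e', he, hD0 _ (S.line_le_perp hu (S.sm_mem_line _ _)), ← he, S.sq,
      smul_add, smul_smul, smul_smul, show s * s = 1 by rcases hs with h | h <;> rw [h] <;> ring] at h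
    have h4 : s • (D (S.J v) + S.J (D v)) = 0 := by
      rw [smul_add]
      linear_combination (norm := module) h
    exact eq_neg_of_add_eq_zero_left ((smul_eq_zero.1 h4).resolve_left (by rcases hs with h | h <;> rw [h] <;> simp))
  have him : e.im = 0 := by
    have h := hDadj v (S.J v)
    rw [hDJv, he, J_eq S (S.sm e u), sm_sm, QuadraticMap.polar_neg_right, ← S.re_h, ← S.re_h, J_eq, h_sm_left,
      h_sm_right, h_sm_right, S.h_comm v u, huv, mul_one, mul_one] at h
    simp only [QuadraticAlgebra.re_mul] at h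
    have h5 : (2 : F) * δ * e.im = 0 := by linear_combination h
    exact (mul_eq_zero.1 h5).resolve_left (mul_ne_zero S.two hd)
  obtain ⟨c, hc⟩ : ∃ c, c = -(e.re * s) / (2 * δ) := ⟨_, rfl⟩
  set lam := eichIso Q u (c • S.J u) (S.Q_of_q hu) (S.polar_smul_J hu c) with hlam
  have hlamx : ∀ x, ap lam x = x + c • (𝔅 u x • S.J u - 𝔅 (S.J u) x • u) := S.ap_eich_J hu c
  have hint : ∀ x, S.J (ap (g * lam) x) = ap (g * lam) (s • S.J x) := by
    intro x
    have hJ : ∀ y, S.J (ap g y) = ap g (J' y) := fun y => by rw [hJ'a, ap_ap_inv]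
    rw [ap_mul, ap_mul, hJ]
    congr 1
    obtain ⟨k, hk⟩ : ∃ k, k = S.h u x := ⟨_, rfl⟩
    have hp : x - S.sm k v ∈ S.perp u := by rw [mem_perp, h_sub_right, h_sm_right, huv, mul_one, hk, sub_self]
    have hre : 𝔅 u x = k.re := by rw [hk]; rfl
    have him' : 𝔅 (S.J u) x = δ * k.im := by
      rw [hk, S.adj]
      show _ = δ * (𝔅 u (S.J x) / δ)
      field_simp
    have hDx : D x = (k.re * e.re) • u - (k.im * e.re) • S.J u := by
      conv_lhs => rw [(sub_add_cancel x (S.sm k v)).symm, map_add, hD0 _ hp, zero_add, sm_apply, map_add, map_smul,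
        map_smul, hDJv, he, sm_apply, him, zero_smul, add_zero, map_smul]
      module
    have hJlam : J' (ap lam x) = D x + s • S.J (ap lam x) := by
      have e1 : ap lam x - x ∈ S.line u := by
        rw [hlamx, add_sub_cancel_left]
        exact (S.line u).smul_mem _ ((S.line u).sub_mem ((S.line u).smul_mem _ (S.J_mem_line u))
          ((S.line u).smul_mem _ (S.self_mem_line u)))
      have e2 : D (ap lam x - x) = 0 := hD0 _ (S.line_le_perp hu e1)
      rw [map_sub, sub_eq_zero] at e2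
      rw [← e2, hDa]
      abel
    rw [hJlam, hDx, hlamx, hlamx, QuadraticMap.polar_smul_right, QuadraticMap.polar_smul_right,
      QuadraticMap.polar_comm (⇑Q) u (S.J x), S.adj x u, ← QuadraticMap.polar_comm (⇑Q) (S.J u) x, S.adj u (S.J x),
      S.sq, QuadraticMap.polar_smul_right, hre, him', map_add, map_smul, map_sub, map_smul, map_smul, S.sq, hc]
    have := S.two
    rcases hs with h | h <;> rw [h] <;> match_scalars <;> field_simp <;> ring
  have hN : S.InN (g * lam) := by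
    rcases hs with h | h <;> rw [h] at hint
    · exact Or.inl fun x => by rw [hint, one_smul]
    · exact Or.inr fun x => by rw [hint, neg_one_smul, map_neg, neg_neg]
  have hΩ : g * lam ∈ Cfsg.Omega F ⇑Q := mul_mem (hMΩ hg) (eich_mem_omega S.nondeg (by omega) _ _)
  have hlamM : lam ∈ M := by
    have := mul_mem (inv_mem hg) (hH _ hΩ hN)
    rwa [← mul_assoc, inv_mul_cancel, one_mul] at this
  have hc0 : c = 0 := by
    by_contra h0
    exact hnr (S.lineRoots_of_one hH hu0 hu h0 (RootMem.of_iso _ _ hlamM))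
  have hone : lam = 1 := ext_ap fun x => by rw [hlamx, hc0, zero_smul, add_zero, ap_one]
  rwa [hone, mul_one] at hN

end SStr

end CfsgLib.OrthExtTwo
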