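import Cfsg.Agent.OrthExtTwo.Endgame
import Cfsg.Agent.ExtField.Bridge

/-!
# Normalisers of self-adjoint quadratic fields

`isMaximalIn_selfAdjoint_two`: from dimension ten the elements of `Ω` normalising a self-adjoint quadratic
field form a maximal subgroup, in odd characteristic.
-/

set_option autoImplicit false
set_option linter.unusedSectionVars false

namespace CfsgLib.OrthExtTwo

open Matrix Module CfsgLib.Spinor CfsgLib.Forms CfsgLib.Forms4 CfsgLib.OrthMax CfsgLib.OrthMono Cfsg.Geo

variable {F : Type*} [Field F] [Fintype F] {ι : Type} [Fintype ι] [DecidableEq ι] {Q : QuadraticForm F (ι → F)}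

set_option quotPrecheck false in
local notation "𝔅" => QuadraticMap.polar (⇑Q)

/-- A self-adjoint quadratic field is spanned by `1` and a square root of a nonsquare. -/
theorem exists_sstr [Nonempty ι] (hQ : (QuadraticMap.polarBilin Q).Nondegenerate) (h2 : (2 : F) ≠ 0)
    {K : Subalgebra F (Matrix ι ι F)} (hK : IsFieldSubalgebra 2 K)
    (hsa : IsSelfAdjointFor (QuadraticMap.polar ⇑Q) K) :
    ∃ (δ : F) (_ : ∀ r : F, r ^ 2 ≠ δ + 0 * r) (S : SStr Q δ) (Jm : Matrix ι ι F),
      S.J = Matrix.mulVecLin Jm ∧ Jm * Jm = δ • 1 ∧ ∀ k, k ∈ K ↔ ∃ p q : F, k = p • 1 + q • Jm := by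
  have : Module.Finite F K := Module.Finite.of_injective K.val.toLinearMap Subtype.val_injective
  obtain ⟨A, hAK, hA1⟩ : ∃ A ∈ K, A ∉ Submodule.span F {(1 : Matrix ι ι F)} := by
    by_contra! hall
    have := Submodule.finrank_mono (show Subalgebra.toSubmodule K ≤ Submodule.span F {1} from fun k hk => hall k hk)
    rw [finrank_span_singleton (one_ne_zero : (1 : Matrix ι ι F) ≠ 0)] at this
    have h3 : finrank F (Subalgebra.toSubmodule K) = 2 := hK.finrank_eq
    omega
  have hli : LinearIndependent F ![(1 : Matrix ι ι F), A] := by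
    refine linearIndependent_fin2.2 ⟨fun e => hA1 ?_, fun r e => ?_⟩
    · rw [show A = 0 from e]; exact Submodule.zero_mem _
    · simp at e
      rcases eq_or_ne r 0 with rfl | hr
      · simp at e
      · exact hA1 (Submodule.mem_span_singleton.2 ⟨r⁻¹, by rw [← e, inv_smul_smul₀ hr]⟩)
  have hspan : Submodule.span F {(1 : Matrix ι ι F), A} = Subalgebra.toSubmodule K := by
    refine Submodule.eq_of_le_of_finrank_le ?_ ?_
    · rw [Submodule.span_le]
      rintro k (rfl | rfl)
      · exact K.one_mem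
      · exact hAK
    · rw [show finrank F (Subalgebra.toSubmodule K) = 2 from hK.finrank_eq]
      have := finrank_span_eq_card hli
      rw [Matrix.range_cons_cons_empty, Fintype.card_fin] at this
      rw [this]
  have hgen : ∀ k, k ∈ K ↔ ∃ p q : F, k = p • 1 + q • A := fun k => by
    rw [← Subalgebra.mem_toSubmodule, ← hspan, Submodule.mem_span_pair]
    simp [eq_comm]
  obtain ⟨b, a, hsq⟩ := (hgen _).1 (K.mul_mem hAK hAK)
  obtain ⟨Jm, hJm⟩ : ∃ Jm, Jm = A - (a / 2) • (1 : Matrix ι ι F) := ⟨_, rfl⟩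
  obtain ⟨δ, hδ⟩ : ∃ δ, δ = b + a ^ 2 / 4 := ⟨_, rfl⟩
  have h4 : (4 : F) ≠ 0 := by rw [show (4 : F) = 2 * 2 by norm_num]; exact mul_ne_zero h2 h2
  have hJJ : Jm * Jm = δ • 1 := by
    rw [hJm, sub_mul, mul_sub, mul_sub, hsq, smul_mul_smul_comm, mul_smul_comm, smul_mul_assoc, hδ]
    simp only [one_mul, mul_one]
    match_scalars <;> field_simp <;> ring
  have hmem : ∀ k, k ∈ K ↔ ∃ p q : F, k = p • 1 + q • Jm := fun k => by
    rw [hgen, hJm]
    constructor
    · rintro ⟨p, q, rfl⟩
      exact ⟨p + q * (a / 2), q, by module⟩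
    · rintro ⟨p, q, rfl⟩
      exact ⟨p - q * (a / 2), q, by module⟩
  have hJK : Jm ∈ K := (hmem _).2 ⟨0, 1, by simp⟩
  have hns : ∀ r : F, r ^ 2 ≠ δ + 0 * r := by
    intro r hr
    have hne : ∀ c : F, Jm + c • 1 ≠ 0 := fun c h0 => hA1 (Submodule.mem_span_singleton.2 ⟨a / 2 - c, by
      rw [hJm] at h0
      linear_combination (norm := module) -h0⟩)
    obtain ⟨y, -, hy⟩ := hK.inv (Jm + r • 1) (K.add_mem hJK (K.smul_mem K.one_mem r)) (hne r)
    refine hne (-r) ?_
    have h0 : (Jm + (-r) • 1) * (Jm + r • 1) = 0 := by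
      rw [add_mul, mul_add, mul_add, hJJ, smul_mul_smul_comm, mul_smul_comm, smul_mul_assoc,
        show δ = r ^ 2 by rw [hr]; ring]
      simp only [one_mul, mul_one]
      module
    calc Jm + (-r) • 1 = (Jm + (-r) • 1) * ((Jm + r • 1) * y) := by rw [hy, mul_one]
      _ = 0 := by rw [← mul_assoc, h0, zero_mul]
  refine ⟨δ, hns, ⟨Matrix.mulVecLin Jm, fun x => ?_, fun x y => ?_, h2, hQ⟩, Jm, rfl, hJJ, hmem⟩
  · rw [mulVecLin_apply, mulVecLin_apply, mulVec_mulVec, hJJ, Matrix.smul_mulVec, one_mulVec]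
  · rw [mulVecLin_apply, mulVecLin_apply]
    exact hsa Jm hJK x y

/-- The normaliser of a self-adjoint quadratic field is maximal in `Ω`. -/
theorem isMaximalIn_selfAdjoint_two (hQ : (QuadraticMap.polarBilin Q).Nondegenerate) (hn : 10 ≤ Fintype.card ι)
    (hodd : Odd (Fintype.card F)) {K : Subalgebra F (Matrix ι ι F)} (hK : IsFieldSubalgebra 2 K)
    (hsa : IsSelfAdjointFor (QuadraticMap.polar ⇑Q) K) :
    IsMaximalIn (omegaGL ⇑Q) (subalgebraNormalizer K ⊓ omegaGL ⇑Q) := by
  have : Nonempty ι := Fintype.card_pos_iff.1 (by omega)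
  have h2 : (2 : F) ≠ 0 := fun h => by
    have hc : ringChar F = 2 := CharP.ringChar_of_prime_eq_zero Nat.prime_two (by exact_mod_cast h)
    have := FiniteField.even_card_of_char_two hc
    rw [Nat.odd_iff] at hodd
    omega
  obtain ⟨δ, hns, S, Jm, hSJ, hJJ, hmem⟩ := exists_sstr hQ h2 hK hsa
  haveI : Fact (∀ r : F, r ^ 2 ≠ δ + 0 * r) := ⟨hns⟩
  have hd : δ ≠ 0 := delta_ne
  -- the normaliser is the semilinear group
  have hN : ∀ g : Isom Q, (g : GL ι F) ∈ subalgebraNormalizer K ↔ S.InN g := by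
    intro g
    have hap : ∀ x, ap g (S.J x) = (mat Q g * Jm) *ᵥ x ∧ S.J (ap g x) = (Jm * mat Q g) *ᵥ x := fun x => by
      rw [ap_def, ap_def, hSJ, mulVecLin_apply, mulVecLin_apply, mulVec_mulVec, mulVec_mulVec]
      exact ⟨rfl, rfl⟩
    constructor
    · intro hg
      obtain ⟨p, q, hpq⟩ := (hmem _).1 ((hg Jm).1 ((hmem _).2 ⟨0, 1, by simp⟩))
      have hgJ : mat Q g * Jm = (p • 1 + q • Jm) * mat Q g := by
        rw [← hpq]
        show _ = mat Q g * Jm * mat Q g⁻¹ * mat Q g
        rw [mul_assoc, ← mat_mul, inv_mul_cancel, mat_one, mul_one]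
      have key : ∀ x, ap g (S.J x) = p • ap g x + q • S.J (ap g x) := fun x => by
        rw [(hap x).1, (hap x).2, hgJ, add_mul, smul_mul_assoc, smul_mul_assoc, one_mul, add_mulVec,
          Matrix.smul_mulVec, Matrix.smul_mulVec, ← ap_def]
      obtain ⟨x, hx⟩ := exists_ne (0 : ι → F)
      have hcoef : (⟨p, q⟩ : QuadraticAlgebra F δ 0) * ⟨p, q⟩ = ⟨δ, 0⟩ := by
        have h0 : ap g x ≠ 0 := fun e => hx (ap_injective g (by rw [e, map_zero]))
        refine sub_eq_zero.1 ((S.sm_eq_zero (x := ap g x) ?_).resolve_right h0)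
        have h1 := key (S.J x)
        rw [S.sq, map_smul, key x] at h1
        rw [SStr.sub_sm, sub_eq_zero, SStr.sm_coe, ← SStr.sm_sm]
        simp only [SStr.sm_apply, map_add, map_smul] at h1 ⊢
        exact h1.symm
      have e1 := congrArg QuadraticAlgebra.re hcoef
      have e2 := congrArg QuadraticAlgebra.im hcoef
      simp only [QuadraticAlgebra.re_mul, QuadraticAlgebra.im_mul, zero_mul, add_zero] at e1 e2
      have hp : p = 0 := by
        rcases mul_eq_zero.1 (show p * ((2 : F) * q) = 0 by linear_combination e2) with h | h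
        · exact h
        · have hq : q = 0 := (mul_eq_zero.1 h).resolve_left h2
          exact absurd (by rw [hq] at e1; linear_combination e1) (hns p)
      have hq : q * q = 1 := by
        rw [hp] at e1
        exact mul_left_cancel₀ hd (by linear_combination e1)
      rcases mul_self_eq_one_iff.1 hq with h | h
      · exact Or.inl fun y => by rw [key, hp, h, zero_smul, zero_add, one_smul]
      · exact Or.inr fun y => by rw [key, hp, h, zero_smul, zero_add, neg_one_smul]
    · intro hg
      refine ExtField.mem_normalizer_of_conj_mem fun k hk => ?_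
      obtain ⟨p, q, rfl⟩ := (hmem k).1 hk
      show mat Q g * (p • 1 + q • Jm) * mat Q g⁻¹ ∈ K
      have hgi : mat Q g * mat Q g⁻¹ = 1 := by rw [← mat_mul, mul_inv_cancel, mat_one]
      rcases hg with h | h
      · have e : mat Q g * Jm = Jm * mat Q g := Matrix.ext_iff_mulVec.2 fun x => by
          rw [← (hap x).1, ← (hap x).2, h x]
        refine (hmem _).2 ⟨p, q, ?_⟩
        rw [mul_add, mul_smul_comm, mul_smul_comm, mul_one, e, add_mul, smul_mul_assoc, smul_mul_assoc, mul_assoc, hgi,
          mul_one]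
      · have e : mat Q g * Jm = -(Jm * mat Q g) := Matrix.ext_iff_mulVec.2 fun x => by
          rw [Matrix.neg_mulVec, ← (hap x).1, ← (hap x).2, h x]
        refine (hmem _).2 ⟨p, -q, ?_⟩
        rw [mul_add, mul_smul_comm, mul_smul_comm, mul_one, e, add_mul, smul_mul_assoc, smul_mul_assoc, neg_mul,
          mul_assoc, hgi, mul_one, smul_neg, neg_smul]
  refine isMaximalIn_omega _ ?_ fun M hM g hgM hgΩ hgS => ?_
  · -- properness
    obtain ⟨u, -, hu0, hu⟩ := S.exists_ksing (T := ⊤) (fun x _ => Submodule.mem_top) (by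
      rw [finrank_top, Module.finrank_pi]; omega)
    obtain ⟨v, hv, huv⟩ := S.exists_partner hu0 hu
    obtain ⟨b, ⟨hub, hvb⟩, hb0⟩ := Submodule.exists_mem_ne_zero_of_ne_bot (p := S.perp u ⊓ S.perp v) (fun e => by
      have := S.finrank_perp_perp u v
      rw [e, finrank_bot] at this
      omega)
    have hbu : 𝔅 u b = 0 := S.polar_eq_zero_of_h hub
    refine ⟨eichIso Q u b (S.Q_of_q hu) hbu, eich_mem_omega S.nondeg (by omega) _ _, fun hmemS => ?_⟩
    have huJ : 𝔅 u (S.J v) = 0 := by
      have := congrArg QuadraticAlgebra.im huv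
      simpa [SStr.h, QuadraticAlgebra.im_one, hd] using this
    have hbv : 𝔅 b v = 0 := by rw [QuadraticMap.polar_comm]; exact S.polar_eq_zero_of_h hvb
    have hbJv : 𝔅 b (S.J v) = 0 := by rw [QuadraticMap.polar_comm]; exact (S.h_eq_zero.1 hvb).2
    have hbJu : 𝔅 b (S.J u) = 0 := by rw [QuadraticMap.polar_comm]; exact (S.h_eq_zero.1 hub).2
    rcases (hN _).1 hmemS with h | h
    · have h1 := h v
      rw [ap_eichIso, ap_eichIso, huJ, hbJv, show 𝔅 u v = 1 by rw [← S.re_h, huv, QuadraticAlgebra.re_one], hbv] at h1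
      simp only [zero_smul, mul_zero, sub_zero, add_zero, one_smul, mul_one, map_add, map_sub, map_smul] at h1
      have h3 : S.J b = Q b • S.J u := by linear_combination (norm := abel) -h1
      have h4 := congrArg S.J h3
      rw [map_smul, S.sq, S.sq, smul_comm] at h4
      have h5 := congrArg (fun z => S.h v z) (smul_right_injective _ hd h4)
      simp only [S.mem_perp.1 hvb] at h5
      rw [← S.sm_coe, SStr.h_sm_right, S.h_comm v u, huv, mul_one] at h5
      have hQb : Q b = 0 := (congrArg QuadraticAlgebra.re h5).symm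
      rw [hQb, zero_smul] at h3
      have h6 := S.sq b
      rw [h3, map_zero] at h6
      exact hb0 ((smul_eq_zero.1 h6.symm).resolve_left hd)
    · have h1 := h u
      rw [ap_eichIso, ap_eichIso, S.polar_J hu, hbJu, polar_self', S.Q_of_q hu,
        QuadraticMap.polar_comm (⇑Q) b u, hbu] at h1
      simp only [mul_zero, zero_smul, sub_zero, add_zero] at h1
      have h2' : (2 : F) • S.J u = 0 := by rw [two_smul]; nth_rewrite 1 [h1]; exact neg_add_cancel _
      have h6 := S.sq u
      rw [(smul_eq_zero.1 h2').resolve_left h2, map_zero] at h6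
      exact hu0 ((smul_eq_zero.1 h6.symm).resolve_left hd)
  · refine le_trans (S.omega_le_of_not_inN (M := M ⊓ Cfsg.Omega F ⇑Q) hn ?_ inf_le_right ⟨hgM, hgΩ⟩
      fun h => hgS ((hN g).2 h)) inf_le_left
    exact fun k hk hkN => ⟨hM k hk ((hN k).2 hkN), hk⟩

end CfsgLib.OrthExtTwo
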