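import Cfsg.Agent.OrthExtTwo.Line

/-!
# Short root elements of all singular lines of the extension generate `Ω`

`omega_le_of_lineRoots`: an overgroup of the normaliser of the extension with the short root elements of one
singular line contains `Ω`.
-/

set_option autoImplicit false
set_option linter.unusedSectionVars false

namespace CfsgLib.OrthExtTwo

open Matrix Module CfsgLib.Spinor CfsgLib.Forms CfsgLib.Forms4 CfsgLib.OrthMax CfsgLib.OrthMono

variable {F : Type*} [Field F] {ι : Type} [Fintype ι] [DecidableEq ι] {Q : QuadraticForm F (ι → F)}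
variable {δ : F} [hδ : Fact (∀ r : F, r ^ 2 ≠ δ + 0 * r)]

set_option quotPrecheck false in
local notation "𝔅" => QuadraticMap.polar (⇑Q)

local notation "𝕂" => QuadraticAlgebra F δ 0

namespace SStr

variable (S : SStr Q δ)

/-- Closed under the extension. -/
def Stable (T : Submodule F (ι → F)) : Prop := ∀ x ∈ T, S.J x ∈ T

theorem Stable.sm {T : Submodule F (ι → F)} (hT : S.Stable T) (k : 𝕂) {x : ι → F} (hx : x ∈ T) : S.sm k x ∈ T :=
  T.add_mem (T.smul_mem _ hx) (T.smul_mem _ (hT x hx))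

theorem stable_perp (u : ι → F) : S.Stable (S.perp u) := fun x hx => by
  rw [J_eq]; exact S.sm_mem_perp hx _

theorem stable_line (u : ι → F) : S.Stable (S.line u) := fun _ hx => S.line_stable hx

theorem Stable.inf {T U : Submodule F (ι → F)} (hT : S.Stable T) (hU : S.Stable U) : S.Stable (T ⊓ U) :=
  fun x hx => ⟨hT x hx.1, hU x hx.2⟩

theorem Stable.sup {T U : Submodule F (ι → F)} (hT : S.Stable T) (hU : S.Stable U) : S.Stable (T ⊔ U) := by
  intro x hx
  obtain ⟨a, ha, b, hb, rfl⟩ := Submodule.mem_sup.1 hx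
  rw [map_add]
  exact Submodule.add_mem_sup (hT a ha) (hU b hb)

theorem qperp_sup (T U : Submodule F (ι → F)) : qperp Q (T ⊔ U) = qperp Q T ⊓ qperp Q U := by
  refine le_antisymm (fun x hx => ?_) fun x hx => mem_qperp.2 fun w hw => ?_
  · exact ⟨mem_qperp.2 fun w hw => mem_qperp.1 hx w (Submodule.mem_sup_left hw),
      mem_qperp.2 fun w hw => mem_qperp.1 hx w (Submodule.mem_sup_right hw)⟩
  · obtain ⟨a, ha, b, hb, rfl⟩ := Submodule.mem_sup.1 hw
    rw [QuadraticMap.polar_add_left, mem_qperp.1 hx.1 a ha, mem_qperp.1 hx.2 b hb, add_zero]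

theorem finrank_line_le (u : ι → F) : finrank F (S.line u) ≤ 2 := by
  by_cases hu : u = 0
  · have : S.line u = ⊥ := le_bot_iff.1 fun x hx => by
      obtain ⟨k, rfl⟩ := hx
      simp [hu]
    rw [this, finrank_bot]
    omega
  · rw [S.finrank_line hu]

theorem finrank_perp_perp (u y : ι → F) :
    Fintype.card ι - 4 ≤ finrank F ↥(S.perp u ⊓ S.perp y) := by
  rw [← S.qperp_line, ← S.qperp_line, ← qperp_sup, finrank_qperp S.nondeg]
  have h1 := Submodule.finrank_add_le_finrank_add_finrank (S.line u) (S.line y)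
  have := S.finrank_line_le u
  have := S.finrank_line_le y
  omega

theorem exists_aniso {T : Submodule F (ι → F)} (hT : Fintype.card ι < 2 * finrank F T) : ∃ w ∈ T, S.q w ≠ 0 := by
  by_contra! hall
  have := two_finrank_le S.nondeg fun x hx => congrArg QuadraticAlgebra.re (hall x hx)
  omega

theorem finrank_inf_perp_le (T : Submodule F (ι → F)) (w : ι → F) :
    finrank F T ≤ finrank F ↥(T ⊓ S.perp w) + 2 := by
  have h1 := Submodule.finrank_sup_add_finrank_inf_eq T (S.perp w)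
  have h2 : finrank F (S.perp w) = Fintype.card ι - finrank F (S.line w) := by
    rw [← S.qperp_line, finrank_qperp S.nondeg]
  have h3 := S.finrank_line_le w
  have h4 : finrank F ↥(T ⊔ S.perp w) ≤ Fintype.card ι := (Submodule.finrank_le _).trans (by rw [Module.finrank_pi])
  have h5 : finrank F (S.line w) ≤ Fintype.card ι := (Submodule.finrank_le _).trans (by rw [Module.finrank_pi])
  omega

variable [Fintype F]

theorem exists_ksing {T : Submodule F (ι → F)} (hT : S.Stable T) (hd : 5 ≤ finrank F T) :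
    ∃ z ∈ T, z ≠ 0 ∧ S.q z = 0 := by
  by_contra! hall
  haveI : Finite 𝕂 := Module.finite_of_finite F
  have pick : ∀ U : Submodule F (ι → F), U ≤ T → 1 ≤ finrank F U → ∃ w ∈ U, S.q w ≠ 0 := fun U hU h1 => by
    obtain ⟨w, hw, hw0⟩ := Submodule.exists_mem_ne_zero_of_ne_bot (p := U) fun e => by
      rw [e, finrank_bot] at h1; omega
    exact ⟨w, hw, hall w (hU hw) hw0⟩
  obtain ⟨w₁, hw₁, h₁⟩ := pick T le_rfl (by omega)
  have d₁ := S.finrank_inf_perp_le T w₁
  obtain ⟨w₂, hw₂, h₂⟩ := pick (T ⊓ S.perp w₁) inf_le_left (by omega)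
  have d₂ := S.finrank_inf_perp_le (T ⊓ S.perp w₁) w₂
  obtain ⟨w₃, hw₃, h₃⟩ := pick (T ⊓ S.perp w₁ ⊓ S.perp w₂) (inf_le_left.trans inf_le_left) (by omega)
  obtain ⟨x, y, hxy⟩ := exists_diag_binary S.two_K h₁ h₂ (-S.q w₃)
  have h12 : S.h w₁ w₂ = 0 := hw₂.2
  have h13 : S.h w₁ w₃ = 0 := hw₃.1.2
  have h23 : S.h w₂ w₃ = 0 := hw₃.2
  refine hall (S.sm x w₁ + S.sm y w₂ + w₃) (T.add_mem (T.add_mem (hT.sm S x hw₁) (hT.sm S y hw₂.1)) hw₃.1.1) ?_ ?_
  · intro h0
    have : S.h w₃ (S.sm x w₁ + S.sm y w₂ + w₃) = 2 * S.q w₃ := by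
      rw [h_add_right, h_add_right, h_sm_right, h_sm_right, S.h_comm w₃ w₁, h13, S.h_comm w₃ w₂, h23, h_self]
      ring
    rw [h0, h_zero_right] at this
    exact mul_ne_zero S.two_K h₃ this.symm
  · rw [q_add, q_add, q_sm, q_sm, h_sm_left, h_sm_right, h12, h_add_left, h_sm_left, h_sm_left, h13, h23]
    linear_combination hxy

theorem mem_span_ksing {T : Submodule F (ι → F)} (hT : S.Stable T) {z z' : ι → F} (hz : z ∈ T) (hz' : z' ∈ T)
    (hzq : S.q z = 0) (hzq' : S.q z' = 0) (hzz : S.h z z' ≠ 0) {x : ι → F} (hx : x ∈ T) :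
    x ∈ Submodule.span F {b | b ∈ T ∧ S.q b = 0} := by
  have key : ∀ b ∈ T, S.q b = 0 → S.h b x ≠ 0 → x ∈ Submodule.span F {b | b ∈ T ∧ S.q b = 0} := by
    intro b hb hbq hbx
    obtain ⟨k, hk⟩ : ∃ k, k = -S.q x / S.h b x := ⟨_, rfl⟩
    have hy : S.q (x + S.sm k b) = 0 := by
      rw [q_add, q_sm, hbq, h_sm_right, S.h_comm x b, hk, div_mul_cancel₀ _ hbx]
      ring
    have hm := Submodule.sub_mem _
      (Submodule.subset_span (R := F) (s := {b | b ∈ T ∧ S.q b = 0}) ⟨T.add_mem hx (hT.sm S k hb), hy⟩)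
      (Submodule.subset_span ⟨hT.sm S k hb, by rw [q_sm, hbq, mul_zero]⟩)
    simpa using hm
  by_cases h1 : S.h z x = 0
  swap; · exact key z hz hzq h1
  by_cases h2 : S.h z' x = 0
  swap; · exact key z' hz' hzq' h2
  by_cases h3 : S.q x = 0
  · exact Submodule.subset_span ⟨hx, h3⟩
  obtain ⟨k, hk⟩ : ∃ k, k = -S.q x / S.h z z' := ⟨_, rfl⟩
  refine key (z + S.sm k z' + x) (T.add_mem (T.add_mem hz (hT.sm S k hz')) hx) ?_ ?_
  · rw [q_add, q_add, q_sm, hzq, hzq', h_sm_right, h_add_left, h_sm_left, h1, h2, hk, div_mul_cancel₀ _ hzz]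
    ring
  · rw [h_add_left, h_add_left, h_sm_left, h1, h2, h_self, mul_zero, add_zero, zero_add]
    exact mul_ne_zero S.two_K h3

/-- The linear elements of `Ω` act transitively on singular lines. -/
theorem exists_move (hn : 10 ≤ Fintype.card ι) {u y : ι → F} (hu0 : u ≠ 0) (hu : S.q u = 0) (hy0 : y ≠ 0)
    (hy : S.q y = 0) : ∃ g ∈ Cfsg.Omega F ⇑Q, S.Lin g ∧ ∃ k : 𝕂, k ≠ 0 ∧ ap g u = S.sm k y := by
  by_cases hyu : y ∈ S.line u
  · obtain ⟨k, hk⟩ := hyu
    have hk0 : k ≠ 0 := fun e => hy0 (by rw [hk, e, sm_zero_left])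
    exact ⟨1, one_mem _, fun x => by rw [ap_one, ap_one], k⁻¹, inv_ne_zero hk0,
      by rw [hk, S.sm_inv_sm hk0, ap_one]⟩
  obtain ⟨z, hz, hzu, hzy⟩ : ∃ z, S.q z = 0 ∧ S.h z u ≠ 0 ∧ S.h z y ≠ 0 := by
    by_cases huy : S.h u y = 0
    · have hex : ∀ a b : ι → F, a ∉ S.line b → ∃ x, S.h b x = 0 ∧ S.h a x = 1 := by
        intro a b hab
        obtain ⟨x, hx, hx0⟩ : ∃ x, S.h b x = 0 ∧ S.h a x ≠ 0 := by
          by_contra! hall
          refine hab ?_
          rw [← S.qperp_perp]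
          exact mem_qperp.2 fun x hx => by
            rw [QuadraticMap.polar_comm]; exact S.polar_eq_zero_of_h (hall x hx)
        exact ⟨S.sm (S.h a x)⁻¹ x, by rw [h_sm_right, hx, mul_zero], by rw [h_sm_right, inv_mul_cancel₀ hx0]⟩
      obtain ⟨x₁, h11, h12⟩ := hex y u hyu
      have huy' : u ∉ S.line y := fun ⟨k, hk⟩ => hyu ⟨k⁻¹, by
        rw [hk, S.sm_inv_sm fun e => hu0 (by rw [hk, e, sm_zero_left])]⟩
      obtain ⟨x₂, h21, h22⟩ := hex u y huy'
      have e1 : S.h u (x₁ + x₂) = 1 := by rw [h_add_right, h11, h22, zero_add]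
      have e2 : S.h y (x₁ + x₂) = 1 := by rw [h_add_right, h12, h21, add_zero]
      refine ⟨(x₁ + x₂) - S.sm (S.q (x₁ + x₂)) u, ?_, ?_, ?_⟩
      · rw [q_sub, q_sm, hu, h_sm_right, S.h_comm (x₁ + x₂) u, e1]; ring
      · rw [h_sub_left, h_sm_left, h_self, hu, S.h_comm (x₁ + x₂) u, e1]; simp
      · rw [h_sub_left, h_sm_left, huy, S.h_comm (x₁ + x₂) y, e2]; simp
    · obtain ⟨w, ⟨hwu, hwy⟩, hw⟩ := S.exists_aniso (T := S.perp u ⊓ S.perp y) (by
        have := S.finrank_perp_perp u y; omega)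
      have hwu' : S.h u w = 0 := hwu
      have hwy' : S.h y w = 0 := hwy
      obtain ⟨k, hk⟩ : ∃ k, k = -S.q w / S.h u y := ⟨_, rfl⟩
      refine ⟨u + S.sm k y + w, ?_, ?_, ?_⟩
      · rw [q_add, q_add, q_sm, hu, hy, h_sm_right, h_add_left, h_sm_left, hwu', hwy', hk, div_mul_cancel₀ _ huy]
        ring
      · rw [h_add_left, h_add_left, h_sm_left, h_self, hu, S.h_comm w u, hwu', S.h_comm y u, mul_zero, zero_add,
          add_zero, hk, div_mul_cancel₀ _ huy]
        exact neg_ne_zero.2 hw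
      · rw [h_add_left, h_add_left, h_sm_left, h_self, hy, S.h_comm w y, hwy', mul_zero, mul_zero, add_zero, add_zero]
        exact huy
  obtain ⟨k, hk⟩ : ∃ k, k = S.h z u / S.h z y := ⟨_, rfl⟩
  obtain ⟨w, hw⟩ : ∃ w, w = S.sm (S.h z u)⁻¹ (S.sm k y - u) := ⟨_, rfl⟩
  have hzw : S.h z w = 0 := by
    rw [hw, h_sm_right, h_sub_right, h_sm_right, hk, div_mul_cancel₀ _ hzy, sub_self, mul_zero]
  refine ⟨S.eK z w hz hzw, S.eK_mem_omega hz hzw, S.lin_eK hz hzw, k, ?_, ?_⟩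
  · rw [hk]; exact div_ne_zero hzu hzy
  have e : ap (S.eK z w hz hzw) u = S.sm k y - S.sm (S.h w u + S.q w * S.h z u) z := by
    rw [S.ap_eK, hw, sm_sm, mul_inv_cancel₀ hzu, sm_one]
    abel
  have h0 : S.h w u + S.q w * S.h z u = 0 := by
    have h1 : S.q (ap (S.eK z w hz hzw) u) = 0 := by
      rw [show ap (S.eK z w hz hzw) u = S.eichMap z w u from ap_mkIso _ _ _ _ _ u, S.q_eichMap hz hzw, hu]
    rw [e, q_sub, q_sm, hy, q_sm, hz, h_sm_left, h_sm_right, S.h_comm y z] at h1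
    have hzero : k * ((S.h w u + S.q w * S.h z u) * S.h z y) = 0 := by linear_combination -h1
    rcases mul_eq_zero.1 hzero with h | h
    · rw [hk] at h
      exact absurd h (div_ne_zero hzu hzy)
    · exact (mul_eq_zero.1 h).resolve_right hzy
  rw [e, h0, sm_zero_left, sub_zero]

variable {M : Subgroup (Isom Q)}

/-- All singular lines have their short root elements once one does. -/
theorem uTrans_of_lineRoots (hn : 10 ≤ Fintype.card ι) (hH : S.Contains M) {u : ι → F} (hu0 : u ≠ 0)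
    (hu : S.q u = 0) (h : S.LineRoots M u) : ∀ z, S.q z = 0 → S.LineRoots M z := by
  intro z hz c
  by_cases hz0 : z = 0
  · rw [hz0, map_zero, smul_zero]
    exact RootMem.zero
  obtain ⟨g, hgΩ, hg, k, hk0, hgu⟩ := S.exists_move hn hu0 hu hz0 hz
  have hnm : nm k ≠ 0 := fun e => hk0 (by
    by_cases him : k.im = 0
    · refine QuadraticAlgebra.ext ?_ him
      simpa [nm, him] using e
    · exact absurd (show (k.re / k.im) ^ 2 = δ + 0 * (k.re / k.im) by
        rw [nm] at e; field_simp; linear_combination e) (hδ.out _))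
  have := (h (c / nm k)).conj (hH g hgΩ (Or.inl hg))
  rw [← ap_def, ← ap_def, map_smul, hg u, hgu, S.rootMem_scale hz, div_mul_cancel₀ _ hnm] at this
  exact this

/-- The product of short root elements. -/
theorem rootMem_pair (hn : 10 ≤ Fintype.card ι) (hH : S.Contains M) (hU : ∀ z, S.q z = 0 → S.LineRoots M z)
    {a b : ι → F} (ha : S.q a = 0) (hb : S.q b = 0) (hab : S.h a b = 0) (c : F) :
    RootMem M a (c • b) := by
  have hd := delta_ne (δ := δ)
  have h2 := S.two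
  obtain ⟨d, hd'⟩ : ∃ d, d = c / 2 := ⟨_, rfl⟩
  obtain ⟨e, he⟩ : ∃ e, e = d / δ := ⟨_, rfl⟩
  have hJb : S.q (S.J b) = 0 := by rw [J_eq, q_sm, hb, mul_zero]
  have hz : S.q (a + S.J b) = 0 := by
    rw [q_add, ha, hJb, J_eq, h_sm_right, hab, mul_zero, add_zero, add_zero]
  have habd : S.h a (d • b) = 0 := by rw [← S.sm_coe, h_sm_right, hab, mul_zero]
  have hqa := S.Q_of_q ha
  have hqb := S.Q_of_q hb
  have p1 : 𝔅 a b = 0 := S.polar_eq_zero_of_h hab
  have hac : 𝔅 a (c • b) = 0 := by rw [QuadraticMap.polar_smul_right, p1, smul_zero]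
  have p2 : 𝔅 (S.J a) b = 0 := (S.h_eq_zero.1 hab).2
  have paJ : 𝔅 a (S.J a) = 0 := S.polar_J ha
  have pbJ : 𝔅 b (S.J b) = 0 := S.polar_J hb
  have p3 : 𝔅 a (S.J b) = 0 := by rw [← S.adj]; exact p2
  have hmem : eichIso Q (a + S.J b) (e • S.J (a + S.J b)) (S.Q_of_q hz) (S.polar_smul_J hz e) *
      eichIso Q a ((-e) • S.J a) hqa (S.polar_smul_J ha _) *
      eichIso Q (S.J b) ((-e) • S.J (S.J b)) (S.Q_of_q hJb) (S.polar_smul_J hJb _) * S.eK a (d • b) ha habd ∈ M :=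
    mul_mem (mul_mem (mul_mem ((hU _ hz e).iso _ _) ((hU _ ha _).iso _ _)) ((hU _ hJb _).iso _ _))
      (hH _ (S.eK_mem_omega ha habd) (Or.inl (S.lin_eK ha habd)))
  refine RootMem.of_iso hqa hac ?_
  convert hmem using 1
  refine ext_ap fun x => ?_
  rw [ap_mul, ap_mul, ap_mul, S.ap_eich_J hz, S.ap_eich_J ha, S.ap_eich_J hJb, S.ap_eK ha habd, ap_eichIso]
  have hk : ∀ y : ι → F, (S.h a y).im = 𝔅 (S.J a) y / δ := fun y => by rw [S.adj]; rfl
  have hk' : ∀ y : ι → F, (S.h b y).im = 𝔅 (S.J b) y / δ := fun y => by rw [S.adj]; rfl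
  simp only [← S.sm_coe d b, h_sm_left, q_sm, hb, mul_zero, zero_mul, add_zero]
  simp only [sm_coe, sm_apply, QuadraticAlgebra.re_mul, QuadraticAlgebra.im_mul, re_h, hk, hk', zero_mul,
    add_zero, mul_zero]
  simp only [map_add, map_smul, S.sq, QuadraticMap.polar_add_left, QuadraticMap.polar_add_right,
    QuadraticMap.polar_sub_right, QuadraticMap.polar_sub_left, QuadraticMap.polar_smul_left,
    QuadraticMap.polar_smul_right, QuadraticMap.map_smul, hqb, smul_eq_mul, polar_self', hqa, S.Q_J ha, S.Q_J hb,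
    p1, p2, p3, paJ, pbJ, QuadraticMap.polar_comm (⇑Q) b a, QuadraticMap.polar_comm (⇑Q) (S.J b) a,
    QuadraticMap.polar_comm (⇑Q) b (S.J a), QuadraticMap.polar_comm (⇑Q) (S.J a) a,
    QuadraticMap.polar_comm (⇑Q) (S.J b) b,
    show 𝔅 (S.J a) (S.J b) = 0 by rw [S.adj, S.sq, QuadraticMap.polar_smul_right, p1, smul_zero],
    show 𝔅 (S.J b) (S.J a) = 0 by
      rw [S.adj, S.sq, QuadraticMap.polar_smul_right, QuadraticMap.polar_comm, p1, smul_zero]]
  rw [he, hd']
  match_scalars <;> field_simp <;> ring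

/-- All short root elements give full singular points. -/
theorem full_of_lineRoots (hn : 10 ≤ Fintype.card ι) (hH : S.Contains M) (hU : ∀ z, S.q z = 0 → S.LineRoots M z)
    {a : ι → F} (ha0 : a ≠ 0) (ha : S.q a = 0) : Full M a := by
  have hsub : ∀ a : ι → F, a ≠ 0 → ∀ ha : S.q a = 0, S.perp a ≤ rootSpace M (S.Q_of_q ha) ∧
      ∃ a', S.q a' = 0 ∧ S.h a a' = 1 ∧
        ∃ z z', S.h a z = 0 ∧ S.h a' z = 0 ∧ S.h a z' = 0 ∧ S.h a' z' = 0 ∧ S.h z z' = 1 := by
    intro a ha0 ha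
    obtain ⟨a', ha', haa⟩ := S.exists_partner ha0 ha
    obtain ⟨z, ⟨hza, hza'⟩, hz0, hz⟩ := S.exists_ksing ((S.stable_perp a).inf S (S.stable_perp a'))
      (by have := S.finrank_perp_perp a a'; omega)
    obtain ⟨t, ht, hzt⟩ := S.exists_partner hz0 hz
    obtain ⟨z', hz'⟩ : ∃ z', z' = t - S.sm (S.h a' t) a - S.sm (S.h a t) a' := ⟨_, rfl⟩
    have hz'm := S.decomp ha ha' haa t
    rw [← hz'] at hz'm
    have hzz : S.h z z' = 1 := by
      rw [hz', h_sub_right, h_sub_right, h_sm_right, h_sm_right, S.h_comm z a, S.h_comm z a', S.mem_perp.1 hza,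
        S.mem_perp.1 hza', mul_zero, mul_zero, sub_zero, sub_zero, hzt]
    refine ⟨fun x hx => ?_, a', ha', haa, z, z', hza, hza', hz'm.1, hz'm.2, hzz⟩
    have hspan : Submodule.span F {b | b ∈ S.perp a ∧ S.q b = 0} ≤ rootSpace M (S.Q_of_q ha) := by
      rw [Submodule.span_le]
      exact fun b hb => ⟨S.polar_eq_zero_of_h hb.1, fun c => S.rootMem_pair hn hH hU ha hb.2 hb.1 c⟩
    refine hspan (S.mem_span_ksing (S.stable_perp a) hza
      ((S.perp a).sub_mem hz'm.1 (S.sm_mem_perp hza (S.q z'))) hz ?_ ?_ hx)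
    · rw [q_sub, q_sm, hz, h_sm_right, S.h_comm z' z, hzz]; ring
    · rw [h_sub_right, h_sm_right, hzz, h_self, hz]; simp
  obtain ⟨hperp, a', ha', haa, d, d', hda, hda', hd'a, hd'a', hdd⟩ := hsub a ha0 ha
  have hJ0 : S.J a' ≠ 0 := fun e => by
    have e2 := S.sq a'
    rw [e, map_zero] at e2
    have e3 : a' = 0 := (smul_eq_zero.1 e2.symm).resolve_left delta_ne
    rw [e3, h_zero_right] at haa
    exact zero_ne_one haa
  have hJq : S.q (S.J a') = 0 := by rw [J_eq, q_sm, ha', mul_zero]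
  have hJd : S.h (S.J a') d = 0 := by rw [J_eq, h_sm_left, hda', mul_zero]
  have hg : eichIso Q (S.J a') d (S.Q_of_q hJq) (S.polar_eq_zero_of_h hJd) ∈ M :=
    rootSpace_iso ((hsub _ hJ0 hJq).1 hJd)
  have p1 : 𝔅 (S.J a') a = 0 := by
    rw [S.adj, QuadraticMap.polar_comm]
    have e := congrArg QuadraticAlgebra.im haa
    simp only [h, QuadraticAlgebra.im_one, div_eq_zero_iff, delta_ne, or_false] at e
    rw [S.adj]; exact e
  have p2 : 𝔅 d a = 0 := by rw [QuadraticMap.polar_comm]; exact S.polar_eq_zero_of_h hda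
  have p3 : 𝔅 (S.J a') d' = 0 := (S.h_eq_zero.1 hd'a').2
  have p4 : 𝔅 d d' = 1 := by rw [← S.re_h, hdd, QuadraticAlgebra.re_one]
  have hfix := rootSpace_fixed hg (by rw [← ap_def, ap_eichIso, p1, p2]; simp) (hperp hd'a)
  rw [← ap_def, ap_eichIso, p3, p4, add_sub_cancel_left] at hfix
  have hJ : S.J a' ∈ rootSpace M (S.Q_of_q ha) := by
    simpa using hfix
  intro w hw
  obtain ⟨k, hk⟩ : ∃ k, k = S.h a w := ⟨_, rfl⟩
  have hwp : w - S.sm k a' ∈ S.perp a := by rw [mem_perp, h_sub_right, h_sm_right, haa, mul_one, hk, sub_self]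
  have hkre : k.re = 0 := by rw [hk, re_h]; exact hw
  have : w ∈ rootSpace M (S.Q_of_q ha) := by
    rw [← sub_add_cancel w (S.sm k a')]
    refine Submodule.add_mem _ (hperp hwp) ?_
    rw [sm_apply, hkre, zero_smul, zero_add]
    exact Submodule.smul_mem _ _ hJ
  simpa using this.2 1

/-- Short root elements of one singular line give `Ω`. -/
theorem omega_le_of_lineRoots (hn : 10 ≤ Fintype.card ι) (hH : S.Contains M) {u : ι → F} (hu0 : u ≠ 0)
    (hu : S.q u = 0) (h : S.LineRoots M u) : Cfsg.Omega F ⇑Q ≤ M := by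
  have hU := S.uTrans_of_lineRoots hn hH hu0 hu h
  obtain ⟨v, hv, huv⟩ := S.exists_partner hu0 hu
  have hv0 : v ≠ 0 := fun e => by rw [e, h_zero_right] at huv; exact zero_ne_one huv
  refine omega_le_of_full_pair S.nondeg (by omega) (S.Q_of_q hu) (S.Q_of_q hv) ?_
    (S.full_of_lineRoots hn hH hU hu0 hu) (S.full_of_lineRoots hn hH hU hv0 hv)
  rw [← S.re_h, huv, QuadraticAlgebra.re_one]
  exact one_ne_zero

end SStr

end CfsgLib.OrthExtTwo
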